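import Mathlib.LinearAlgebra.Charpoly.Basic
import Mathlib.LinearAlgebra.Charpoly.ToMatrix
import Mathlib.LinearAlgebra.FiniteDimensional.Lemmas
import Mathlib.LinearAlgebra.Dimension.Constructions
import Mathlib.Tactic
import Mathlib.LinearAlgebra.Charpoly.BaseChange
import Mathlib.SetTheory.Cardinal.NatCard
import Mathlib.SetTheory.Cardinal.Finite
import Mathlib.LinearAlgebra.Transvection.Basic
import Mathlib.LinearAlgebra.Matrix.Charpoly.Coeff
import Mathlib.LinearAlgebra.Matrix.Rank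
import Cfsg.Agent.Prune
set_option linter.all false
prune_inst 0x7fffedffbffffbffdf7f7ffda7dfeffc3f939fffa4fffd4bffe36ffffbff37dbcdcff7ad89e4b0fedfd7c23414a8fb43f9ffffffea6bfc7ffffd5ff45ffbee6ff5f7bd0951df8cb40fbc8fff63f0778e7f3fffffffffffffffffffffffffffffffbfffffffff
open scoped Cfsg.Agent.FastGrp

-- part: H130/War/Chain
section
/-!
# Two chains (S2453)

`charpoly_eq_of_kill` : the characteristic polynomial from a cyclic vector;
`chain` : `Z` with `Z w_i = w_{i+1}` (`i ≤ n`), `Z w_{n+1} = ev a + b y`, `Z y = ev c + d y`, `b ≠ 0` has characteristic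
polynomial `(X - d) (X^{n+2} - a) - b c`, and `w_0` is cyclic.
-/

set_option autoImplicit false

namespace Cfsg.Agent.H130.War

open Polynomial Module

variable {F V : Type*} [Field F] [AddCommGroup V] [Module F V]

theorem aeval_apply_eq {S : End F V} {v : V} {m : ℕ} {h : F[X]} (hd : h.natDegree < m) :
    aeval S h v = ∑ i : Fin m, h.coeff i • (S ^ (i : ℕ)) v := by
  rw [aeval_eq_sum_range' hd, LinearMap.sum_apply, ← Fin.sum_univ_eq_sum_range
    (fun i => (h.coeff i • S ^ i) v)]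
  rfl

theorem charpoly_eq_of_kill [FiniteDimensional F V] {S : End F V} {v : V} {m : ℕ} (hm : finrank F V = m)
    (hli : LinearIndependent F fun i : Fin m => (S ^ (i : ℕ)) v) {χ : F[X]} (hχ : χ.Monic) (hd : χ.natDegree = m)
    (h0 : aeval S χ v = 0) : LinearMap.charpoly S = χ := by
  by_contra hne
  have h1 : (LinearMap.charpoly S).Monic := LinearMap.charpoly_monic S
  have h2 : (LinearMap.charpoly S).natDegree = m := by rw [LinearMap.charpoly_natDegree, hm]
  have h3 : (LinearMap.charpoly S - χ).natDegree < m ∨ m = 0 := by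
    rcases Nat.eq_zero_or_pos m with h | h
    · exact Or.inr h
    · left
      have h4 : (LinearMap.charpoly S - χ).degree < (LinearMap.charpoly S).degree := by
        apply Polynomial.degree_sub_lt_left
        · rw [Polynomial.degree_eq_natDegree h1.ne_zero, Polynomial.degree_eq_natDegree hχ.ne_zero, h2, hd]
        · exact h1.ne_zero
        · rw [h1.leadingCoeff, hχ.leadingCoeff]
      rw [← h2]
      exact Polynomial.natDegree_lt_natDegree (sub_ne_zero.2 hne) h4
  rcases h3 with h3 | h3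
  · have h5 : aeval S (LinearMap.charpoly S - χ) v = 0 := by
      rw [map_sub, LinearMap.aeval_self_charpoly, LinearMap.sub_apply, h0, LinearMap.zero_apply, sub_zero]
    rw [aeval_apply_eq h3] at h5
    have h6 := Fintype.linearIndependent_iff.1 hli _ h5
    apply hne
    rw [← sub_eq_zero]
    ext i
    rw [coeff_zero]
    by_cases hi : i < m
    · exact h6 ⟨i, hi⟩
    · exact coeff_eq_zero_of_natDegree_lt (by omega)
  · subst h3
    apply hne
    rw [h1.natDegree_eq_zero.1 h2, hχ.natDegree_eq_zero.1 hd]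

section Chain

variable {n : ℕ}

/-- the combination of the chain with the coefficients of `h` -/
noncomputable def ev (B : Fin (n + 3) → V) (h : F[X]) : V := ∑ i : Fin (n + 2), h.coeff i • B i.castSucc

/-- the two chains -/
structure IsChain (B : Basis (Fin (n + 3)) F V) (Z : End F V) (a c : F[X]) (b d : F) : Prop where
  step : ∀ i : Fin (n + 1), Z (B i.castSucc.castSucc) = B i.succ.castSucc
  one : Z (B (Fin.last (n + 1)).castSucc) = ev B a + b • B (Fin.last (n + 2))
  two : Z (B (Fin.last (n + 2))) = ev B c + d • B (Fin.last (n + 2))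

variable {B : Basis (Fin (n + 3)) F V} {Z : End F V} {a c : F[X]} {b d : F}

theorem IsChain.pow (h : IsChain B Z a c b d) (i : ℕ) (hi : i < n + 2) :
    (Z ^ i) (B 0) = B (⟨i, hi⟩ : Fin (n + 2)).castSucc := by
  induction i with
  | zero => rw [pow_zero]; rfl
  | succ i ih =>
    rw [pow_succ', Module.End.mul_apply, ih (by omega)]
    exact h.step ⟨i, by omega⟩

theorem IsChain.aeval (h : IsChain B Z a c b d) {f : F[X]} (hf : f.natDegree < n + 2) :
    Polynomial.aeval Z f (B 0) = ev B f := by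
  rw [aeval_apply_eq hf]
  exact Finset.sum_congr rfl fun i _ => by rw [h.pow i i.2]

theorem IsChain.last (h : IsChain B Z a c b d) (ha : a.natDegree < n + 2) :
    Polynomial.aeval Z (X ^ (n + 2) - a) (B 0) = b • B (Fin.last (n + 2)) := by
  rw [map_sub, map_pow, aeval_X, LinearMap.sub_apply, h.aeval ha, pow_succ', Module.End.mul_apply,
    h.pow (n + 1) (by omega)]
  have h1 := h.one
  rw [show (⟨n + 1, by omega⟩ : Fin (n + 2)) = Fin.last (n + 1) from rfl, h1]
  abel

theorem IsChain.kill (h : IsChain B Z a c b d) (ha : a.natDegree < n + 2) (hc : c.natDegree < n + 2) :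
    Polynomial.aeval Z ((X - C d) * (X ^ (n + 2) - a) - C b * c) (B 0) = 0 := by
  rw [map_sub, map_mul, map_mul, LinearMap.sub_apply, Module.End.mul_apply, Module.End.mul_apply, h.last ha,
    h.aeval hc, map_sub, aeval_X, aeval_C, aeval_C, LinearMap.sub_apply, map_smul, h.two]
  simp only [Module.algebraMap_end_apply, smul_add, map_smul]
  rw [smul_comm b d]
  abel

theorem IsChain.li (h : IsChain B Z a c b d) (ha : a.natDegree < n + 2) (hb : b ≠ 0) :
    LinearIndependent F fun i : Fin (n + 3) => (Z ^ (i : ℕ)) (B 0) := by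
  rw [Fintype.linearIndependent_iff]
  intro g hg
  rw [Fin.sum_univ_castSucc] at hg
  have h1 : (Z ^ ((Fin.last (n + 2) : Fin (n + 3)) : ℕ)) (B 0) = ev B a + b • B (Fin.last (n + 2)) := by
    have h2 := h.last ha
    rw [map_sub, map_pow, aeval_X, LinearMap.sub_apply, h.aeval ha, sub_eq_iff_eq_add] at h2
    rw [add_comm (ev _ _)]
    exact h2
  have h3 : ∑ i : Fin (n + 2), g i.castSucc • (Z ^ ((i.castSucc : Fin (n + 3)) : ℕ)) (B 0) =
      ∑ i : Fin (n + 2), g i.castSucc • B i.castSucc :=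
    Finset.sum_congr rfl fun i _ => by
      rw [show ((i.castSucc : Fin (n + 3)) : ℕ) = (i : ℕ) from rfl, h.pow i i.2]
  rw [h3, h1, ev, smul_add, Finset.smul_sum, ← add_assoc, ← Finset.sum_add_distrib, smul_smul] at hg
  have h4 := Fintype.linearIndependent_iff.1 B.linearIndependent
    (fun j => Fin.lastCases (motive := fun _ => F) (g (Fin.last (n + 2)) * b)
      (fun i => g i.castSucc + g (Fin.last (n + 2)) * a.coeff i) j) (by
    rw [Fin.sum_univ_castSucc]
    simp only [Fin.lastCases_castSucc, Fin.lastCases_last]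
    rw [← hg]
    congr 1
    exact Finset.sum_congr rfl fun i _ => by rw [add_smul, smul_smul])
  have h5 : g (Fin.last (n + 2)) = 0 := by
    have := h4 (Fin.last (n + 2))
    simp only [Fin.lastCases_last] at this
    exact (mul_eq_zero.1 this).resolve_right hb
  intro i
  refine Fin.lastCases h5 (fun j => ?_) i
  have := h4 j.castSucc
  simp only [Fin.lastCases_castSucc] at this
  rw [h5, zero_mul, add_zero] at this
  exact this

theorem chi_aux (ha : a.natDegree < n + 2) : (X ^ (n + 2) - a).Monic ∧ (X ^ (n + 2) - a).natDegree = n + 2 := by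
  have h1 : (X ^ (n + 2) - a).natDegree = n + 2 := by
    rw [natDegree_sub_eq_left_of_natDegree_lt (by rw [natDegree_X_pow]; exact ha), natDegree_X_pow]
  refine ⟨?_, h1⟩
  rw [Monic, leadingCoeff, h1, coeff_sub, coeff_X_pow, if_pos rfl, coeff_eq_zero_of_natDegree_lt ha, sub_zero]

theorem chi_monic (ha : a.natDegree < n + 2) (hc : c.natDegree < n + 2) :
    ((X - C d) * (X ^ (n + 2) - a) - C b * c).Monic ∧
      ((X - C d) * (X ^ (n + 2) - a) - C b * c).natDegree = n + 3 := by
  obtain ⟨h1, h2⟩ := chi_aux ha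
  have h3 : ((X - C d) * (X ^ (n + 2) - a)).Monic := (monic_X_sub_C d).mul h1
  have h4 : ((X - C d) * (X ^ (n + 2) - a)).natDegree = n + 3 := by
    rw [(monic_X_sub_C d).natDegree_mul h1, natDegree_X_sub_C, h2]; omega
  have h5 : (C b * c).natDegree < n + 3 := lt_of_le_of_lt (natDegree_C_mul_le b c) (by omega)
  have h6 : ((X - C d) * (X ^ (n + 2) - a) - C b * c).natDegree = n + 3 := by
    rw [natDegree_sub_eq_left_of_natDegree_lt (by rw [h4]; exact h5), h4]
  refine ⟨?_, h6⟩
  rw [Monic, leadingCoeff, h6, coeff_sub, coeff_eq_zero_of_natDegree_lt h5, sub_zero]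
  have := h3
  rwa [Monic, leadingCoeff, h4] at this

/-- **The characteristic polynomial of two chains** -/
theorem IsChain.charpoly [FiniteDimensional F V] (h : IsChain B Z a c b d) (ha : a.natDegree < n + 2)
    (hc : c.natDegree < n + 2) (hb : b ≠ 0) : LinearMap.charpoly Z = (X - C d) * (X ^ (n + 2) - a) - C b * c :=
  charpoly_eq_of_kill (by rw [finrank_eq_card_basis B, Fintype.card_fin]) (h.li ha hb) (chi_monic ha hc).1
    (chi_monic ha hc).2 (h.kill ha hc)

/-- existence -/
theorem exists_chain (B : Basis (Fin (n + 3)) F V) (a c : F[X]) (b d : F) : ∃ Z : End F V, IsChain B Z a c b d := by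
  let f : Fin (n + 3) → V := fun j => Fin.lastCases (motive := fun _ => V) (ev B c + d • B (Fin.last (n + 2)))
    (fun i => Fin.lastCases (motive := fun _ => V) (ev B a + b • B (Fin.last (n + 2))) (fun i' => B i'.succ.castSucc) i) j
  refine ⟨B.constr F f, ⟨fun i => ?_, ?_, ?_⟩⟩
  · rw [B.constr_basis]
    simp only [f, Fin.lastCases_castSucc]
  · rw [B.constr_basis]
    simp only [f, Fin.lastCases_castSucc, Fin.lastCases_last]
  · rw [B.constr_basis]
    simp only [f, Fin.lastCases_last]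

end Chain

end Cfsg.Agent.H130.War
end

-- part: H130/War/RankTwo
section
/-!
# `A - 1` of rank 2 (S2453)

`exists_rank_two` : `dim V = n + 3 ≥ 5` (or `= 4` and `|F| ≥ 3`), `F` finite, `A - 1` of rank 2, `p`, `g` monic of degree `n + 3` with
`p(0) = det A * g(0) ≠ 0`: there is `Z` with characteristic polynomial `g` such that `A Z` has characteristic polynomial `p`.
-/

set_option autoImplicit false
set_option linter.unusedSectionVars false

namespace Cfsg.Agent.H130.War

open Polynomial Module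

variable {F V : Type*} [Field F] [AddCommGroup V] [Module F V]

/-- two proper subspaces do not cover -/
theorem exists_notMem_two {P Q : Submodule F V} (hP : P ≠ ⊤) (hQ : Q ≠ ⊤) : ∃ v, v ∉ P ∧ v ∉ Q := by
  obtain ⟨u, hu⟩ : ∃ u, u ∉ P := by
    by_contra h; push Not at h; exact hP (eq_top_iff.2 fun v _ => h v)
  obtain ⟨w, hw⟩ : ∃ w, w ∉ Q := by
    by_contra h; push Not at h; exact hQ (eq_top_iff.2 fun v _ => h v)
  by_cases h1 : u ∈ Q
  · by_cases h2 : w ∈ P
    · refine ⟨u + w, fun h => hu ?_, fun h => hw ?_⟩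
      · have := P.sub_mem h h2; rwa [add_sub_cancel_right] at this
      · have := Q.sub_mem h h1; rwa [add_sub_cancel_left] at this
    · exact ⟨w, h2, hw⟩
  · exact ⟨u, hu, h1⟩

theorem exists_equiv_pair {U W ι : Type*} [AddCommGroup U] [Module F U] [AddCommGroup W] [Module F W]
    [FiniteDimensional F U] [FiniteDimensional F W] [Finite ι] (hd : finrank F U = finrank F W) {u : ι → U} {w : ι → W}
    (hu : LinearIndependent F u) (hw : LinearIndependent F w) : ∃ T : U ≃ₗ[F] W, ∀ i, T (u i) = w i := by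
  classical
  let S : U ≃ₗ[F] W := LinearEquiv.ofFinrankEq U W hd
  have hu' : LinearIndependent F (fun i => S (u i)) := hu.map' S.toLinearMap (LinearEquiv.ker S)
  let f := hu'.linearCombinationEquiv.symm ≪≫ₗ hw.linearCombinationEquiv
  obtain ⟨g, hg⟩ := Submodule.exists_linearEquiv_restrict_eq f
  refine ⟨S ≪≫ₗ g, fun i => ?_⟩
  have h1 : ((hu'.linearCombinationEquiv (Finsupp.single i 1) : Submodule.span F (Set.range fun i => S (u i))) : W)
      = S (u i) := by simp
  have h2 : ((hw.linearCombinationEquiv (Finsupp.single i 1) : Submodule.span F (Set.range w)) : W)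
      = w i := by simp
  rw [LinearEquiv.trans_apply, ← h1, ← hg, ← h2]
  simp [f]

section Basis

variable [FiniteDimensional F V] {n : ℕ} {W : Submodule F V} {x y : V}

/-- a basis of `V` from `x`, a basis of `W` and `y` -/
theorem exists_basis (hV : finrank F V = n + 3) (hind : ∀ s t : F, s • x + t • y ∈ W → s = 0 ∧ t = 0)
    (β : Fin (n + 1) → V) (hβ : LinearIndependent F β) (hβW : ∀ i, β i ∈ W) :
    ∃ B : Basis (Fin (n + 3)) F V, B 0 = x ∧ (∀ i : Fin (n + 1), B i.succ.castSucc = β i) ∧ B (Fin.last (n + 2)) = y := by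
  let f : Fin (n + 3) → V := fun j => Fin.lastCases (motive := fun _ => V) y
    (fun i => Fin.cases (motive := fun _ => V) x β i) j
  have f0 : f 0 = x := by
    show f (0 : Fin (n + 2)).castSucc = x
    simp only [f, Fin.lastCases_castSucc, Fin.cases_zero]
  have f1 : ∀ i : Fin (n + 1), f i.succ.castSucc = β i := fun i => by
    simp only [f, Fin.lastCases_castSucc, Fin.cases_succ]
  have f2 : f (Fin.last (n + 2)) = y := by simp only [f, Fin.lastCases_last]
  have hli : LinearIndependent F f := by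
    rw [Fintype.linearIndependent_iff]
    intro g hg
    rw [Fin.sum_univ_castSucc, Fin.sum_univ_succ] at hg
    have h0 : (Fin.castSucc (0 : Fin (n + 2)) : Fin (n + 3)) = 0 := rfl
    rw [h0, f0, f2] at hg
    simp only [f1] at hg
    have hw : ∑ i : Fin (n + 1), g i.succ.castSucc • β i ∈ W :=
      Submodule.sum_mem _ fun i _ => W.smul_mem _ (hβW i)
    have h2 : g 0 • x + g (Fin.last (n + 2)) • y ∈ W := by
      have : g 0 • x + g (Fin.last (n + 2)) • y = - ∑ i : Fin (n + 1), g i.succ.castSucc • β i := by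
        rw [eq_neg_iff_add_eq_zero, ← hg]; abel
      rw [this]; exact W.neg_mem hw
    obtain ⟨h3, h4⟩ := hind _ _ h2
    rw [h3, h4, zero_smul, zero_smul, zero_add, add_zero] at hg
    have h5 := Fintype.linearIndependent_iff.1 hβ _ hg
    intro i
    refine Fin.lastCases h4 (fun j => ?_) i
    refine Fin.cases h3 (fun k => ?_) j
    exact h5 k
  let B := basisOfLinearIndependentOfCardEqFinrank hli (by rw [Fintype.card_fin, hV])
  have hB : ∀ i, B i = f i := fun i => by
    rw [coe_basisOfLinearIndependentOfCardEqFinrank]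
  exact ⟨B, by rw [hB, f0], fun i => by rw [hB, f1], by rw [hB, f2]⟩

end Basis

/-! ### The polynomials -/

section Pol

variable {n : ℕ} {p g : F[X]}

/-- the second polynomial -/
noncomputable def cc (n : ℕ) (b d : F) (a g : F[X]) : F[X] := C b⁻¹ * ((X - C d) * (X ^ (n + 2) - a) - g)

theorem cc_mul {b : F} (hb : b ≠ 0) (d : F) (a g : F[X]) : C b * cc n b d a g = (X - C d) * (X ^ (n + 2) - a) - g := by
  rw [cc, ← mul_assoc, ← C_mul, mul_inv_cancel₀ hb, C_1, one_mul]

theorem cc_char {b : F} (hb : b ≠ 0) (d : F) (a g : F[X]) : (X - C d) * (X ^ (n + 2) - a) - C b * cc n b d a g = g := by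
  rw [cc_mul hb]; ring

theorem cc_degree {b d : F} {a g : F[X]} (hg : g.Monic) (hgd : g.natDegree = n + 3) (ha : a.natDegree < n + 2)
    (htop : a.coeff (n + 1) = - g.coeff (n + 2) - d) : (cc n b d a g).natDegree < n + 2 := by
  refine lt_of_le_of_lt (natDegree_C_mul_le _ _) (Nat.lt_succ_of_le ?_)
  rw [natDegree_le_iff_coeff_eq_zero]
  intro N hN
  have e : (X - C d) * (X ^ (n + 2) - a) - g = X ^ (n + 3) - X * a - C d * X ^ (n + 2) + C d * a - g := by ring
  rw [e]
  simp only [coeff_sub, coeff_add, coeff_C_mul, coeff_X_pow]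
  obtain ⟨N, rfl⟩ : ∃ M, N = M + 1 := ⟨N - 1, by omega⟩
  rw [coeff_X_mul]
  rcases Nat.lt_trichotomy N (n + 2) with h | h | h
  · have : N = n + 1 := by omega
    subst this
    rw [coeff_eq_zero_of_natDegree_lt (show a.natDegree < n + 1 + 1 by omega), htop, if_neg (by omega), if_pos rfl]
    ring
  · subst h
    have h1 : g.coeff (n + 2 + 1) = 1 := by
      have := hg
      rwa [Monic, leadingCoeff, hgd] at this
    rw [h1, coeff_eq_zero_of_natDegree_lt (show a.natDegree < n + 2 + 1 by omega), coeff_eq_zero_of_natDegree_lt ha,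
      if_pos rfl, if_neg (by omega)]
    ring
  · rw [coeff_eq_zero_of_natDegree_lt (show a.natDegree < N + 1 by omega),
      coeff_eq_zero_of_natDegree_lt (show a.natDegree < N by omega),
      coeff_eq_zero_of_natDegree_lt (show g.natDegree < N + 1 by omega), if_neg (by omega), if_neg (by omega)]
    ring

theorem cc_coeff_zero {b d : F} {a g : F[X]} : (cc n b d a g).coeff 0 = b⁻¹ * (d * a.coeff 0 - g.coeff 0) := by
  rw [cc, coeff_C_mul]
  have e : (X - C d) * (X ^ (n + 2) - a) - g = X * (X ^ (n + 2) - a - C d * X ^ (n + 1)) + C d * a - g := by ring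
  rw [e, coeff_sub, coeff_add, mul_coeff_zero, coeff_X_zero, zero_mul, coeff_C_mul, zero_add]

/-- the first polynomial with the free coefficients `τ` -/
noncomputable def aa (n : ℕ) (a₀ t : F) (τ : Fin n → F) : F[X] :=
  C a₀ + ∑ i : Fin n, C (τ i) * X ^ ((i : ℕ) + 1) + C t * X ^ (n + 1)

theorem aa_coeff_zero (a₀ t : F) (τ : Fin n → F) : (aa n a₀ t τ).coeff 0 = a₀ := by
  simp only [aa, coeff_X_pow, _root_.Polynomial.coeff_add, _root_.Polynomial.coeff_C_zero, _root_.Polynomial.finsetSum_coeff, _root_.Polynomial.mul_coeff_zero, _root_.Nat.right_eq_add, _root_.Nat.add_eq_zero_iff, _root_.one_ne_zero, _root_.and_false, ↓ _root_.reduceIte, _root_.MulZeroClass.mul_zero, _root_.Finset.sum_const_zero, _root_.add_zero]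

theorem aa_coeff_mid (a₀ t : F) (τ : Fin n → F) (i : Fin n) : (aa n a₀ t τ).coeff ((i : ℕ) + 1) = τ i := by
  have h1 : (n + 1 : ℕ) ≠ (i : ℕ) + 1 := by have := i.2; omega
  rw [aa]
  simp only [coeff_add, coeff_C_mul, coeff_X_pow, finsetSum_coeff, coeff_C_succ, zero_add]
  rw [Finset.sum_eq_single i (fun j _ hj => by
    rw [if_neg (fun h => hj (Fin.ext (by omega))), mul_zero]) (fun h => absurd (Finset.mem_univ i) h), if_pos rfl, mul_one,
    if_neg h1.symm, mul_zero, add_zero]

theorem aa_coeff_top (a₀ t : F) (τ : Fin n → F) : (aa n a₀ t τ).coeff (n + 1) = t := by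
  rw [aa]
  simp only [coeff_add, coeff_C_mul, coeff_X_pow, finsetSum_coeff, coeff_C_succ, zero_add, if_true, mul_one]
  rw [Finset.sum_eq_zero (fun j _ => by rw [if_neg (by have := j.2; omega), mul_zero]), zero_add]

theorem aa_degree (a₀ t : F) (τ : Fin n → F) : (aa n a₀ t τ).natDegree < n + 2 := by
  refine Nat.lt_succ_of_le ?_
  rw [natDegree_le_iff_coeff_eq_zero]
  intro N hN
  obtain ⟨N, rfl⟩ : ∃ M, N = M + 1 := ⟨N - 1, by omega⟩
  rw [aa]
  simp only [coeff_add, coeff_C_mul, coeff_X_pow, finsetSum_coeff, coeff_C_succ, zero_add]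
  rw [Finset.sum_eq_zero (fun j _ => by rw [if_neg (by have := j.2; omega), mul_zero]), if_neg (by omega), mul_zero,
    add_zero]

/-- the free coefficients are determined by the ratio -/
theorem tau_inj {b' d' a₀ t : F} (hb : b' ≠ 0) (hp : p.Monic) (hpd : p.natDegree = n + 3)
    (ht : t = - p.coeff (n + 2) - d') {a c : F[X]} {κ : F} {τ τ' : Fin n → F}
    (h : ∀ i : Fin (n + 1), (cc n b' d' (aa n a₀ t τ) p - c).coeff ((i : ℕ) + 1) =
      κ * (aa n a₀ t τ - a).coeff ((i : ℕ) + 1))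
    (h' : ∀ i : Fin (n + 1), (cc n b' d' (aa n a₀ t τ') p - c).coeff ((i : ℕ) + 1) =
      κ * (aa n a₀ t τ' - a).coeff ((i : ℕ) + 1)) : τ = τ' := by
  have hd1 : (cc n b' d' (aa n a₀ t τ) p).natDegree < n + 2 :=
    cc_degree hp hpd (aa_degree _ _ _) (by rw [aa_coeff_top, ht])
  have hd2 : (cc n b' d' (aa n a₀ t τ') p).natDegree < n + 2 :=
    cc_degree hp hpd (aa_degree _ _ _) (by rw [aa_coeff_top, ht])
  have e1 : cc n b' d' (aa n a₀ t τ) p - cc n b' d' (aa n a₀ t τ') p = C κ * (aa n a₀ t τ - aa n a₀ t τ') := by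
    ext i
    rw [coeff_sub, coeff_C_mul, coeff_sub]
    rcases Nat.eq_zero_or_pos i with rfl | hi
    · rw [cc_coeff_zero, cc_coeff_zero, aa_coeff_zero, aa_coeff_zero]; ring
    · obtain ⟨j, rfl⟩ : ∃ j, i = j + 1 := ⟨i - 1, by omega⟩
      by_cases hj : j < n + 1
      · have h1 := h ⟨j, hj⟩
        have h2 := h' ⟨j, hj⟩
        simp only [coeff_sub] at h1 h2
        linear_combination h1 - h2
      · rw [coeff_eq_zero_of_natDegree_lt (by omega), coeff_eq_zero_of_natDegree_lt (by omega),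
          coeff_eq_zero_of_natDegree_lt (lt_of_lt_of_le (aa_degree a₀ t τ) (by omega)),
          coeff_eq_zero_of_natDegree_lt (lt_of_lt_of_le (aa_degree a₀ t τ') (by omega))]
        ring
  have e2 := cc_mul (n := n) hb d' (aa n a₀ t τ) p
  have e3 := cc_mul (n := n) hb d' (aa n a₀ t τ') p
  have e4 : (X - C (d' - b' * κ)) * (aa n a₀ t τ - aa n a₀ t τ') = 0 := by
    have e5 : C b' * (cc n b' d' (aa n a₀ t τ) p - cc n b' d' (aa n a₀ t τ') p) =
      C b' * (C κ * (aa n a₀ t τ - aa n a₀ t τ')) := by rw [e1]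
    rw [mul_sub, e2, e3] at e5
    rw [C_sub, C_mul]
    linear_combination -e5
  have e6 : aa n a₀ t τ - aa n a₀ t τ' = 0 := (mul_eq_zero.1 e4).resolve_left (X_sub_C_ne_zero _)
  funext i
  have e7 := congrArg (fun f : F[X] => f.coeff ((i : ℕ) + 1)) (sub_eq_zero.1 e6)
  simp only [aa_coeff_mid] at e7
  exact e7

theorem exists_tau [Finite F] (hn : 2 ≤ n) {b' d' a₀ t : F} (hb : b' ≠ 0) (hp : p.Monic) (hpd : p.natDegree = n + 3)
    (ht : t = - p.coeff (n + 2) - d') {a c : F[X]} (ha : ∀ i : Fin n, a.coeff ((i : ℕ) + 1) = 0) :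
    ∃ τ : Fin n → F, LinearIndependent F ![fun i : Fin (n + 1) => (aa n a₀ t τ - a).coeff ((i : ℕ) + 1),
      fun i : Fin (n + 1) => (cc n b' d' (aa n a₀ t τ) p - c).coeff ((i : ℕ) + 1)] := by
  classical
  by_contra hcon
  push Not at hcon
  have key : ∀ τ : Fin n → F, τ ≠ 0 → ∃ κ : F, ∀ i : Fin (n + 1),
      (cc n b' d' (aa n a₀ t τ) p - c).coeff ((i : ℕ) + 1) = κ * (aa n a₀ t τ - a).coeff ((i : ℕ) + 1) := by
    intro τ hτ
    have h1 := hcon τ
    rw [LinearIndependent.pair_iff] at h1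
    push Not at h1
    obtain ⟨s, u, hsu, hne⟩ := h1
    have hu : u ≠ 0 := by
      rintro rfl
      have hs : s ≠ 0 := fun h0 => hne h0 rfl
      apply hτ
      funext i
      have h2 := congrFun hsu i.castSucc
      simp only [Pi.add_apply, Pi.smul_apply, smul_eq_mul, zero_mul, add_zero, Pi.zero_apply, mul_eq_zero, hs, false_or,
        Fin.val_castSucc, coeff_sub, ha, sub_zero, aa_coeff_mid] at h2
      exact h2
    refine ⟨-s / u, fun i => ?_⟩
    have h2 := congrFun hsu i
    simp only [Pi.add_apply, Pi.smul_apply, smul_eq_mul, Pi.zero_apply] at h2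
    field_simp
    linear_combination h2
  choose κ hκ using key
  let f : (Fin n → F) → Option F := fun τ => if h : τ = 0 then none else some (κ τ h)
  have hf : Function.Injective f := by
    intro τ τ' h
    by_cases h1 : τ = 0
    · by_cases h2 : τ' = 0
      · rw [h1, h2]
      · simp only [f, dif_pos h1, dif_neg h2] at h
        exact absurd h (by simp)
    · by_cases h2 : τ' = 0
      · simp only [f, dif_pos h2, dif_neg h1] at h
        exact absurd h (by simp)
      · simp only [f, dif_neg h1, dif_neg h2, Option.some.injEq] at h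
        refine tau_inj hb hp hpd ht (hκ τ h1) (κ := κ τ h1) ?_
        rw [h]
        exact hκ τ' h2
  have h1 := Nat.card_le_card_of_injective f hf
  rw [Nat.card_fun, Nat.card_eq_fintype_card (α := Fin n), Fintype.card_fin, Finite.card_option] at h1
  have h2 : 2 ≤ Nat.card F := Finite.one_lt_card
  have h3 : Nat.card F ^ 2 ≤ Nat.card F ^ n := Nat.pow_le_pow_right (by omega) hn
  nlinarith only [h1, h2, h3]

/-- `n = 1`, at least three elements: a quadratic equation -/
theorem exists_tau_one [Finite F] (hF : 3 ≤ Nat.card F) {b' d' a₀ t : F} (hb : b' ≠ 0) {a c : F[X]}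
    (ha : a.coeff 1 = 0) :
    ∃ τ : Fin 1 → F, LinearIndependent F ![fun i : Fin (1 + 1) => (aa 1 a₀ t τ - a).coeff ((i : ℕ) + 1),
      fun i : Fin (1 + 1) => (cc 1 b' d' (aa 1 a₀ t τ) p - c).coeff ((i : ℕ) + 1)] := by
  classical
  by_contra hcon
  push Not at hcon
  have e1 : ∀ τ : Fin 1 → F, (aa 1 a₀ t τ).coeff 1 = τ 0 := fun τ => aa_coeff_mid a₀ t τ 0
  have e2 : ∀ τ : Fin 1 → F, (aa 1 a₀ t τ).coeff 2 = t := fun τ => aa_coeff_top a₀ t τ
  have e0 : ∀ τ : Fin 1 → F, (aa 1 a₀ t τ).coeff 0 = a₀ := fun τ => aa_coeff_zero a₀ t τ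
  have f1 : ∀ τ : Fin 1 → F, b' * (cc 1 b' d' (aa 1 a₀ t τ) p).coeff 1 = - a₀ + d' * τ 0 - p.coeff 1 := fun τ => by
    have h := congrArg (fun f : F[X] => f.coeff 1) (cc_mul (n := 1) hb d' (aa 1 a₀ t τ) p)
    have e : (X - C d') * (X ^ (1 + 2) - aa 1 a₀ t τ) - p =
      X * (X ^ 3) - X * aa 1 a₀ t τ - C d' * X ^ 3 + C d' * aa 1 a₀ t τ - p := by ring
    rw [e] at h
    simp only [coeff_sub, coeff_add, coeff_C_mul, coeff_X_mul, coeff_X_pow, e0, e1] at h
    rw [h]
    norm_num only [_root_.ite_false, _root_.zero_sub, _root_.MulZeroClass.mul_zero, _root_.sub_zero]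
    try ring
  have f2 : ∀ τ : Fin 1 → F, b' * (cc 1 b' d' (aa 1 a₀ t τ) p).coeff 2 = - τ 0 + d' * t - p.coeff 2 := fun τ => by
    have h := congrArg (fun f : F[X] => f.coeff 2) (cc_mul (n := 1) hb d' (aa 1 a₀ t τ) p)
    have e : (X - C d') * (X ^ (1 + 2) - aa 1 a₀ t τ) - p =
      X * (X ^ 3) - X * aa 1 a₀ t τ - C d' * X ^ 3 + C d' * aa 1 a₀ t τ - p := by ring
    rw [e] at h
    simp only [coeff_sub, coeff_add, coeff_C_mul, coeff_X_mul, coeff_X_pow, e1, e2] at h
    rw [h]
    norm_num only [_root_.ite_false, _root_.zero_sub, _root_.MulZeroClass.mul_zero, _root_.sub_zero]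
    try ring
  -- the determinant vanishes
  have key : ∀ x : F, x * (- x + d' * t - p.coeff 2 - b' * c.coeff 2) -
      (t - a.coeff 2) * (- a₀ + d' * x - p.coeff 1 - b' * c.coeff 1) = 0 := by
    intro x
    by_contra hx
    apply hcon (fun _ => x)
    rw [LinearIndependent.pair_iff]
    intro r s h
    have h0 := congrFun h 0
    have h1 := congrFun h 1
    simp only [Pi.add_apply, Pi.smul_apply, smul_eq_mul, Pi.zero_apply, coeff_sub, Fin.val_zero, Fin.val_one, zero_add,
      show (1 + 1 : ℕ) = 2 from rfl, e1, e2, ha, sub_zero] at h0 h1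
    have g1 := f1 (fun _ => x)
    have g2 := f2 (fun _ => x)
    have hs : s * (x * (- x + d' * t - p.coeff 2 - b' * c.coeff 2) -
      (t - a.coeff 2) * (- a₀ + d' * x - p.coeff 1 - b' * c.coeff 1)) = 0 := by
      linear_combination b' * x * h1 - b' * (t - a.coeff 2) * h0 - s * x * g2 + s * (t - a.coeff 2) * g1
    have hs0 : s = 0 := (mul_eq_zero.1 hs).resolve_right hx
    refine ⟨?_, hs0⟩
    rw [hs0, zero_mul, add_zero] at h0 h1
    by_contra hr
    have hx0 : x = 0 := (mul_eq_zero.1 h0).resolve_left hr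
    have ht : t - a.coeff 2 = 0 := (mul_eq_zero.1 h1).resolve_left hr
    apply hx
    rw [hx0, ht]
    ring
  obtain ⟨u, hu0, hu1⟩ : ∃ u : F, u ≠ 0 ∧ u ≠ 1 := by
    by_contra h
    push Not at h
    have hsub : ∀ u : F, u = 0 ∨ u = 1 := fun u => by
      by_cases h0 : u = 0
      · exact Or.inl h0
      · exact Or.inr (h u h0)
    have h1 : Nat.card F ≤ Nat.card Bool := Nat.card_le_card_of_injective (fun u : F => decide (u = 0)) (by
      intro u v huv
      rcases hsub u with rfl | rfl <;> rcases hsub v with rfl | rfl <;> simp_all only [_root_.ne_eq, _root_.Nat.succ_eq_add_one, _root_.Nat.reduceAdd, _root_.Polynomial.coeff_sub, _root_.not_false_eq_true, _root_.one_ne_zero, _root_.Fin.isValue, _root_.one_mul, _root_.decide_true, _root_.decide_false, _root_.Bool.true_eq_false, _root_.Bool.false_eq_true])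
    rw [Nat.card_eq_fintype_card (α := Bool), Fintype.card_bool] at h1
    omega
  have k0 := key 0
  have k1 := key 1
  have ku := key u
  have hu : u * (u - 1) = 0 := by linear_combination u * k1 - ku - (u - 1) * k0
  rcases mul_eq_zero.1 hu with h | h
  · exact hu0 h
  · exact hu1 (sub_eq_zero.1 h)

/-- both cases -/
theorem exists_tau' [Finite F] (hn : 2 ≤ n ∨ (n = 1 ∧ 3 ≤ Nat.card F)) {b' d' a₀ t : F} (hb : b' ≠ 0) (hp : p.Monic)
    (hpd : p.natDegree = n + 3) (ht : t = - p.coeff (n + 2) - d') {a c : F[X]}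
    (ha : ∀ i : Fin n, a.coeff ((i : ℕ) + 1) = 0) :
    ∃ τ : Fin n → F, LinearIndependent F ![fun i : Fin (n + 1) => (aa n a₀ t τ - a).coeff ((i : ℕ) + 1),
      fun i : Fin (n + 1) => (cc n b' d' (aa n a₀ t τ) p - c).coeff ((i : ℕ) + 1)] := by
  rcases hn with h | ⟨rfl, h⟩
  · exact exists_tau h hb hp hpd ht ha
  · exact exists_tau_one h hb (ha 0)

end Pol

/-! ### The main theorem -/

section Main

variable [FiniteDimensional F V] {n : ℕ}

theorem coeff_zero_mul (A Z : End F V) : (LinearMap.charpoly (A * Z)).coeff 0 =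
    LinearMap.det A * (LinearMap.charpoly Z).coeff 0 := by
  have h1 := LinearMap.det_eq_sign_charpoly_coeff (A * Z)
  have h2 := LinearMap.det_eq_sign_charpoly_coeff Z
  have h3 : ((-1 : F) ^ finrank F V) * ((-1 : F) ^ finrank F V) = 1 := by
    rw [← mul_pow]; simp
  have h4 : LinearMap.det (A * Z) = LinearMap.det A * LinearMap.det Z := LinearMap.det_comp A Z
  calc (LinearMap.charpoly (A * Z)).coeff 0
      = ((-1 : F) ^ finrank F V * (-1 : F) ^ finrank F V) * (LinearMap.charpoly (A * Z)).coeff 0 := by rw [h3, one_mul]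
    _ = (-1 : F) ^ finrank F V * LinearMap.det (A * Z) := by rw [h1]; ring
    _ = LinearMap.det A * (((-1 : F) ^ finrank F V * (-1 : F) ^ finrank F V) * (LinearMap.charpoly Z).coeff 0) := by
      rw [h4, h2]; ring
    _ = _ := by rw [h3, one_mul]

/-- the element of `V` with the coordinates `a₀`, `b` and the part in `W` -/
theorem ev_eq (B : Basis (Fin (n + 3)) F V) (h : F[X]) :
    ev B h = h.coeff 0 • B 0 + ∑ i : Fin (n + 1), h.coeff ((i : ℕ) + 1) • B i.succ.castSucc := by
  rw [ev, Fin.sum_univ_succ]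
  rfl

/-- the core: two complementary vectors and the polynomials of the two chains -/
theorem core (hV : finrank F V = n + 3) {A : End F V} {W : Submodule F V} (hWd : finrank F W = n + 1)
    (hWA : ∀ w ∈ W, A w = w) {x y : V} (hindW : ∀ s t : F, s • x + t • y ∈ W → s = 0 ∧ t = 0) {α₁ α₂ α₃ α₄ : F}
    {ω₀ ω₁ : V} (hω₀ : ω₀ ∈ W) (hω₁ : ω₁ ∈ W) (hω : ∀ r s : F, r • ω₀ + s • ω₁ = 0 → r = 0 ∧ s = 0)
    (hAx : A x = (1 + α₁) • x + ω₀ + α₂ • y) (hAy : A y = α₃ • x + ω₁ + (1 + α₄) • y) {p g : F[X]}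
    (hg0 : g.coeff 0 ≠ 0) (hdet : p.coeff 0 = LinearMap.det A * g.coeff 0) {a c a' c' : F[X]} {b d b' d' : F}
    (hb : b ≠ 0) (hb' : b' ≠ 0) (had : a.natDegree < n + 2) (hcd : c.natDegree < n + 2) (ha'd : a'.natDegree < n + 2)
    (hc'd : c'.natDegree < n + 2) (hZ : (X - C d) * (X ^ (n + 2) - a) - C b * c = g)
    (hZ' : (X - C d') * (X ^ (n + 2) - a') - C b' * c' = p) (eb : b' = a.coeff 0 * α₂ + b * (1 + α₄))
    (ea : a'.coeff 0 = a.coeff 0 * (1 + α₁) + b * α₃) (ed : d' = c.coeff 0 * α₂ + d * (1 + α₄))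
    (hτ : LinearIndependent F ![fun i : Fin (n + 1) => (a' - a).coeff ((i : ℕ) + 1),
      fun i : Fin (n + 1) => (c' - c).coeff ((i : ℕ) + 1)]) :
    ∃ Z : End F V, LinearMap.charpoly (A * Z) = p ∧ LinearMap.charpoly Z = g := by
  obtain ⟨a₀, ha₀⟩ : ∃ a₀, a₀ = a.coeff 0 := ⟨_, rfl⟩
  obtain ⟨c₀, hc₀⟩ : ∃ c₀, c₀ = c.coeff 0 := ⟨_, rfl⟩
  have hgd : a₀ * d - b * c₀ = g.coeff 0 := by
    rw [← hZ, coeff_sub, mul_coeff_zero, coeff_sub, coeff_sub, coeff_X_zero, coeff_C_zero, coeff_X_pow, if_neg (by omega),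
      coeff_C_mul, ha₀, hc₀]
    ring
  rw [← ha₀] at eb ea
  rw [← hc₀] at ed
  -- the vectors in `W`
  have hν₁ : a₀ • ω₀ + b • ω₁ ∈ W := W.add_mem (W.smul_mem _ hω₀) (W.smul_mem _ hω₁)
  have hν₂ : c₀ • ω₀ + d • ω₁ ∈ W := W.add_mem (W.smul_mem _ hω₀) (W.smul_mem _ hω₁)
  have hν : LinearIndependent F ![(⟨a₀ • ω₀ + b • ω₁, hν₁⟩ : W), ⟨c₀ • ω₀ + d • ω₁, hν₂⟩] := by
    rw [LinearIndependent.pair_iff]
    intro r s h
    have h1 : r • (a₀ • ω₀ + b • ω₁) + s • (c₀ • ω₀ + d • ω₁) = 0 := congrArg (fun w : W => (w : V)) h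
    have h2 : (r * a₀ + s * c₀) • ω₀ + (r * b + s * d) • ω₁ = 0 := by rw [← h1]; module
    obtain ⟨h3, h4⟩ := hω _ _ h2
    have h5 : r * g.coeff 0 = 0 := by rw [← hgd]; linear_combination d * h3 - c₀ * h4
    have h6 : s * g.coeff 0 = 0 := by rw [← hgd]; linear_combination a₀ * h4 - b * h3
    exact ⟨(mul_eq_zero.1 h5).resolve_right hg0, (mul_eq_zero.1 h6).resolve_right hg0⟩
  obtain ⟨T, hT⟩ := exists_equiv_pair (F := F) (U := Fin (n + 1) → F) (W := W)
    (by rw [Module.finrank_fin_fun, hWd]) hτ hν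
  have hT0 : T (fun i : Fin (n + 1) => (a' - a).coeff ((i : ℕ) + 1)) = ⟨a₀ • ω₀ + b • ω₁, hν₁⟩ := hT 0
  have hT1 : T (fun i : Fin (n + 1) => (c' - c).coeff ((i : ℕ) + 1)) = ⟨c₀ • ω₀ + d • ω₁, hν₂⟩ := hT 1
  -- the basis
  let β : Basis (Fin (n + 1)) F W := (Pi.basisFun F (Fin (n + 1))).map T
  have hβ : ∀ f : Fin (n + 1) → F, ∑ i, f i • (β i : V) = (T f : V) := by
    intro f
    have h1 : T f = ∑ i, f i • β i := by
      conv_lhs => rw [← (Pi.basisFun F (Fin (n + 1))).sum_repr f]
      rw [map_sum]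
      exact Finset.sum_congr rfl fun i _ => by rw [map_smul, Basis.map_apply]; rfl
    rw [h1, Submodule.coe_sum]
    rfl
  obtain ⟨B, hBx, hBβ, hBy⟩ := exists_basis (W := W) hV hindW (fun i => (β i : V))
    (β.linearIndependent.map' W.subtype (Submodule.ker_subtype W)) (fun i => (β i).2)
  have hev : ∀ h : F[X], ev B h = h.coeff 0 • x + (T (fun i : Fin (n + 1) => h.coeff ((i : ℕ) + 1)) : V) := by
    intro h
    rw [ev_eq, hBx, ← hβ]
    simp only [hBβ]
  obtain ⟨Z, hZc⟩ := exists_chain B a c b d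
  have hwT : ∀ w : W, A (w : V) = w := fun w => hWA _ w.2
  obtain ⟨ε, hε⟩ : ∃ ε, ε = c₀ * (1 + α₁) + d * α₃ - c'.coeff 0 := ⟨_, rfl⟩
  have hsub : ∀ h h' : F[X], (T (fun i : Fin (n + 1) => h'.coeff ((i : ℕ) + 1)) : V) =
      (T (fun i : Fin (n + 1) => h.coeff ((i : ℕ) + 1)) : V) + (T (fun i : Fin (n + 1) => (h' - h).coeff ((i : ℕ) + 1)) : V) := by
    intro h h'
    rw [← Submodule.coe_add, ← map_add]
    congr 2
    funext i
    simp only [Pi.add_apply, coeff_sub]
    ring
  have hchain : IsChain B (A * Z) a' (c' + C ε) b' d' := by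
    refine ⟨fun i => ?_, ?_, ?_⟩
    · rw [Module.End.mul_apply, hZc.step i, hBβ]
      exact hwT _
    · rw [Module.End.mul_apply, hZc.one, map_add, map_smul, hev a, map_add, map_smul, hBy, hwT, hev a', hsub a a', hT0,
        ← ha₀, ea, hAx, hAy, eb]
      module
    · rw [Module.End.mul_apply, hZc.two, map_add, map_smul, hev c, map_add, map_smul, hwT, hBy, hAx, hAy, hev (c' + C ε)]
      have h1 : (fun i : Fin (n + 1) => (c' + C ε).coeff ((i : ℕ) + 1)) = fun i : Fin (n + 1) => c'.coeff ((i : ℕ) + 1) := by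
        funext i; rw [coeff_add, coeff_C_succ, add_zero]
      have h2 : (c' + C ε).coeff 0 = c₀ * (1 + α₁) + d * α₃ := by rw [coeff_add, coeff_C_zero, hε]; ring
      rw [h1, h2, hsub c c', hT1, ← hc₀, ed]
      module
  have hcp := hchain.charpoly ha'd (by
    refine lt_of_le_of_lt (natDegree_add_le _ _) (max_lt hc'd ?_)
    rw [natDegree_C]; omega) hb'
  have hcp' : LinearMap.charpoly (A * Z) = p - C (b' * ε) := by
    rw [hcp, mul_add, ← C_mul]
    linear_combination hZ'
  have hZcp : LinearMap.charpoly Z = g := by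
    rw [hZc.charpoly had hcd hb]
    exact hZ
  refine ⟨Z, ?_, hZcp⟩
  have h1 := coeff_zero_mul A Z
  rw [hcp', hZcp, ← hdet, coeff_sub, coeff_C_zero] at h1
  have h2 : b' * ε = 0 := by linear_combination -h1
  rw [hcp', h2, C_0, sub_zero]

theorem exists_rank_two [Finite F] (hn : 2 ≤ n ∨ (n = 1 ∧ 3 ≤ Nat.card F)) (hV : finrank F V = n + 3) {A : End F V} (hA : LinearMap.det A ≠ 0)
    (hr : finrank F (LinearMap.range (A - 1)) = 2) {p g : F[X]} (hp : p.Monic) (hpd : p.natDegree = n + 3)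
    (hg : g.Monic) (hgd : g.natDegree = n + 3) (hg0 : g.coeff 0 ≠ 0) (hdet : p.coeff 0 = LinearMap.det A * g.coeff 0) :
    ∃ Z : End F V, LinearMap.charpoly (A * Z) = p ∧ LinearMap.charpoly Z = g := by
  obtain ⟨N, hN⟩ : ∃ N, N = A - 1 := ⟨_, rfl⟩
  have hAN : ∀ v, A v = v + N v := fun v => by rw [hN, LinearMap.sub_apply, Module.End.one_apply]; abel
  rw [← hN] at hr
  obtain ⟨W, hW⟩ : ∃ W, W = LinearMap.ker N := ⟨_, rfl⟩
  obtain ⟨R, hR⟩ : ∃ R, R = LinearMap.range N := ⟨_, rfl⟩
  have hWd : finrank F W = n + 1 := by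
    have := LinearMap.finrank_range_add_finrank_ker N
    rw [hW]; omega
  have hRd : finrank F R = 2 := by rw [hR]; exact hr
  -- the complement
  obtain ⟨x, hxW, hxR⟩ : ∃ x, x ∉ W ∧ x ∉ R := exists_notMem_two
    (fun h => by rw [h, finrank_top] at hWd; omega) (fun h => by rw [h, finrank_top] at hRd; omega)
  have hs : ∀ P : Submodule F V, finrank F P < n + 2 → P ⊔ Submodule.span F {x} ≠ ⊤ := by
    intro P hP h
    have h1 := Submodule.finrank_add_le_finrank_add_finrank P (Submodule.span F {x})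
    rw [h, finrank_top] at h1
    have h2 : finrank F (Submodule.span F {x}) ≤ 1 := le_trans (finrank_span_le_card ({x} : Set V)) (by simp)
    omega
  obtain ⟨y, hyW, hyR⟩ : ∃ y, y ∉ W ⊔ Submodule.span F {x} ∧ y ∉ R ⊔ Submodule.span F {x} :=
    exists_notMem_two (hs W (by omega)) (hs R (by omega))
  have hind : ∀ P : Submodule F V, x ∉ P → y ∉ P ⊔ Submodule.span F {x} → ∀ s t : F, s • x + t • y ∈ P → s = 0 ∧ t = 0 := by
    intro P hx hy s t h
    have ht : t = 0 := by
      by_contra ht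
      apply hy
      have h1 : y = t⁻¹ • (s • x + t • y) + (-(t⁻¹ * s)) • x := by
        rw [smul_add, smul_smul, smul_smul, inv_mul_cancel₀ ht, one_smul, neg_smul]; abel
      rw [h1]
      exact Submodule.add_mem_sup (P.smul_mem _ h) (Submodule.smul_mem _ _ (Submodule.mem_span_singleton_self x))
    refine ⟨?_, ht⟩
    by_contra hs0
    apply hx
    rw [ht, zero_smul, add_zero] at h
    have h1 : x = s⁻¹ • (s • x) := by rw [smul_smul, inv_mul_cancel₀ hs0, one_smul]
    rw [h1]
    exact P.smul_mem _ h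
  have hindW := hind W hxW hyW
  have hindR := hind R hxR hyR
  -- coordinates
  let β₀ := Module.finBasisOfFinrankEq F W hWd
  obtain ⟨B₀, hB0, hBi, hBl⟩ := exists_basis (W := W) hV hindW (fun i => (β₀ i : V))
    (β₀.linearIndependent.map' W.subtype (Submodule.ker_subtype W)) (fun i => (β₀ i).2)
  have hco : ∀ v : V, ∃ s t : F, ∃ w ∈ W, v = s • x + w + t • y := by
    intro v
    refine ⟨B₀.repr v 0, B₀.repr v (Fin.last _), ∑ i : Fin (n + 1), B₀.repr v i.succ.castSucc • (β₀ i : V),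
      Submodule.sum_mem _ fun i _ => W.smul_mem _ (β₀ i).2, ?_⟩
    conv_lhs => rw [← B₀.sum_repr v, Fin.sum_univ_castSucc, Fin.sum_univ_succ]
    rw [hBl]
    simp only [hBi]
    rw [show (Fin.castSucc (0 : Fin (n + 2)) : Fin (n + 3)) = 0 from rfl, hB0]
  obtain ⟨α₁, α₂, ω₀, hω₀, hx⟩ := hco (N x)
  obtain ⟨α₃, α₄, ω₁, hω₁, hy⟩ := hco (N y)
  have hNW : ∀ w ∈ W, N w = 0 := fun w hw => by rw [hW] at hw; exact hw
  have hω : ∀ r s : F, r • ω₀ + s • ω₁ = 0 → r = 0 ∧ s = 0 := by
    intro r s h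
    have h1 : N (r • x + s • y) = (r * α₁ + s * α₃) • x + (r * α₂ + s * α₄) • y := by
      rw [map_add, map_smul, map_smul, hx, hy]
      calc r • (α₁ • x + ω₀ + α₂ • y) + s • (α₃ • x + ω₁ + α₄ • y)
          = (r • ω₀ + s • ω₁) + ((r * α₁ + s * α₃) • x + (r * α₂ + s * α₄) • y) := by module
        _ = _ := by rw [h, zero_add]
    have h2 : N (r • x + s • y) ∈ R := by rw [hR]; exact ⟨_, rfl⟩
    have h3 := h2
    rw [h1] at h3
    obtain ⟨h4, h5⟩ := hindR _ _ h3
    rw [h1, h4, h5, zero_smul, zero_smul, add_zero] at h2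
    have h6 : r • x + s • y ∈ W := by
      rw [hW, LinearMap.mem_ker, h1, h4, h5, zero_smul, zero_smul, add_zero]
    exact hindW _ _ h6
  -- the choice of `a₀`, `b`
  obtain ⟨a₀, b, hb, hb'⟩ : ∃ a₀ b : F, b ≠ 0 ∧ a₀ * α₂ + b * (1 + α₄) ≠ 0 := by
    by_cases h4 : 1 + α₄ = 0
    · refine ⟨1, 1, one_ne_zero, ?_⟩
      rw [h4, mul_zero, add_zero, one_mul]
      intro h2
      -- `A` is not surjective
      have hsurj : Function.Surjective A := (LinearMap.equivOfDetNeZero A hA).surjective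
      obtain ⟨v, hv⟩ := hsurj y
      obtain ⟨s, t, w, hw, hv'⟩ := hco v
      have h5 : A v = (s + s * α₁ + t * α₃) • x + (w + s • ω₀ + t • ω₁) := by
        rw [hAN, hv', map_add, map_add, map_smul, map_smul, hNW w hw, hx, hy, h2]
        have : t • y + t • (α₄ • y) = 0 := by rw [smul_smul, ← add_smul, ← mul_one_add, h4, mul_zero, zero_smul]
        calc s • x + w + t • y + (s • (α₁ • x + ω₀ + (0 : F) • y) + 0 + t • (α₃ • x + ω₁ + α₄ • y))
            = (s + s * α₁ + t * α₃) • x + (w + s • ω₀ + t • ω₁) + (t • y + t • (α₄ • y)) := by module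
          _ = _ := by rw [this, add_zero]
      rw [hv] at h5
      apply hyW
      rw [h5, add_comm]
      exact Submodule.add_mem_sup (W.add_mem (W.add_mem hw (W.smul_mem _ hω₀)) (W.smul_mem _ hω₁))
        (Submodule.smul_mem _ _ (Submodule.mem_span_singleton_self x))
    · exact ⟨0, 1, one_ne_zero, by rw [zero_mul, zero_add, one_mul]; exact h4⟩
  -- the polynomials
  obtain ⟨a, ha⟩ : ∃ a, a = aa n a₀ (-g.coeff (n + 2)) (0 : Fin n → F) := ⟨_, rfl⟩
  have had : a.natDegree < n + 2 := by rw [ha]; exact aa_degree _ _ _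
  have ha0 : a.coeff 0 = a₀ := by rw [ha, aa_coeff_zero]
  have ham : ∀ i : Fin n, a.coeff ((i : ℕ) + 1) = 0 := fun i => by rw [ha, aa_coeff_mid]; rfl
  have hat : a.coeff (n + 1) = - g.coeff (n + 2) - 0 := by rw [ha, aa_coeff_top, sub_zero]
  obtain ⟨c, hc⟩ : ∃ c, c = cc n b 0 a g := ⟨_, rfl⟩
  have hcd : c.natDegree < n + 2 := by rw [hc]; exact cc_degree hg hgd had hat
  have hc0 : c.coeff 0 ≠ 0 := by
    rw [hc, cc_coeff_zero, zero_mul, zero_sub]
    exact mul_ne_zero (inv_ne_zero hb) (neg_ne_zero.2 hg0)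
  obtain ⟨c₀, hc₀⟩ : ∃ c₀, c₀ = c.coeff 0 := ⟨_, rfl⟩
  rw [← hc₀] at hc0
  obtain ⟨b', hb'e⟩ : ∃ b', b' = a₀ * α₂ + b * (1 + α₄) := ⟨_, rfl⟩
  rw [← hb'e] at hb'
  obtain ⟨a₀', ha₀'⟩ : ∃ a₀', a₀' = a₀ * (1 + α₁) + b * α₃ := ⟨_, rfl⟩
  obtain ⟨d', hd'⟩ : ∃ d', d' = c₀ * α₂ := ⟨_, rfl⟩
  obtain ⟨τ, hτ⟩ := exists_tau' (F := F) (p := p) hn (b' := b') (d' := d') (a₀ := a₀') (t := - p.coeff (n + 2) - d') hb' hp hpd rfl
    (a := a) (c := c) ham
  obtain ⟨a', ha'⟩ : ∃ a', a' = aa n a₀' (- p.coeff (n + 2) - d') τ := ⟨_, rfl⟩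
  rw [← ha'] at hτ
  have ha'd : a'.natDegree < n + 2 := by rw [ha']; exact aa_degree _ _ _
  have ha'0 : a'.coeff 0 = a₀' := by rw [ha', aa_coeff_zero]
  have ha't : a'.coeff (n + 1) = - p.coeff (n + 2) - d' := by rw [ha', aa_coeff_top]
  obtain ⟨c', hc'⟩ : ∃ c', c' = cc n b' d' a' p := ⟨_, rfl⟩
  rw [← hc'] at hτ
  have hc'd : c'.natDegree < n + 2 := by rw [hc']; exact cc_degree hp hpd ha'd ha't
  exact core hV hWd (fun w hw => by rw [hAN, hNW w hw, add_zero]) hindW (α₁ := α₁) (α₂ := α₂) (α₃ := α₃) (α₄ := α₄)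
    hω₀ hω₁ hω (by rw [hAN, hx]; module) (by rw [hAN, hy]; module) hg0 hdet hb hb' had hcd ha'd hc'd
    (by rw [hc]; exact cc_char hb 0 a g) (by rw [hc']; exact cc_char hb' d' a' p) (by rw [ha0]; exact hb'e)
    (by rw [ha'0, ha0]; exact ha₀') (by rw [zero_mul, add_zero, ← hc₀]; exact hd') hτ

end Main

end Cfsg.Agent.H130.War
end

-- part: H130/War/RankOne
section
/-!
# `A - 1` of rank 1 (S2453)

`exists_rank_one` : `F` any field, `A - 1` of rank 1, `p ≠ g` monic of degree `n + 1 ≥ 2` with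
`p(0) = det A * g(0) ≠ 0`: there is `Z` with characteristic polynomial `g` such that `A Z` has characteristic polynomial `p`.
-/

set_option autoImplicit false
set_option linter.unusedSectionVars false

namespace Cfsg.Agent.H130.War

open Polynomial Module

variable {F V : Type*} [Field F] [AddCommGroup V] [Module F V]

section Chain

variable {n : ℕ}

/-- the combination of the chain with the coefficients of `h` -/
noncomputable def ev1 (B : Fin (n + 1) → V) (h : F[X]) : V := ∑ i : Fin (n + 1), h.coeff i • B i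

/-- one chain -/
structure IsChain1 (B : Basis (Fin (n + 1)) F V) (Z : End F V) (a : F[X]) : Prop where
  step : ∀ i : Fin n, Z (B i.castSucc) = B i.succ
  one : Z (B (Fin.last n)) = ev1 B a

variable {B : Basis (Fin (n + 1)) F V} {Z : End F V} {a : F[X]}

theorem IsChain1.pow (h : IsChain1 B Z a) (i : ℕ) (hi : i < n + 1) :
    (Z ^ i) (B 0) = B ⟨i, hi⟩ := by
  induction i with
  | zero => rw [pow_zero]; rfl
  | succ i ih =>
    rw [pow_succ', Module.End.mul_apply, ih (by omega)]
    exact h.step ⟨i, by omega⟩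

theorem IsChain1.charpoly [FiniteDimensional F V] (h : IsChain1 B Z a) (ha : a.natDegree < n + 1) :
    LinearMap.charpoly Z = X ^ (n + 1) - a := by
  have h1 : (X ^ (n + 1) - a).natDegree = n + 1 := by
    rw [natDegree_sub_eq_left_of_natDegree_lt (by rw [natDegree_X_pow]; exact ha), natDegree_X_pow]
  refine charpoly_eq_of_kill (v := B 0) (m := n + 1) (by rw [finrank_eq_card_basis B, Fintype.card_fin]) ?_ ?_ h1 ?_
  · have e : (fun i : Fin (n + 1) => (Z ^ (i : ℕ)) (B 0)) = B := by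
      funext i
      exact h.pow i i.2
    rw [e]
    exact B.linearIndependent
  · rw [Monic, leadingCoeff, h1, coeff_sub, coeff_X_pow, if_pos rfl, coeff_eq_zero_of_natDegree_lt ha, sub_zero]
  · rw [map_sub, map_pow, aeval_X, LinearMap.sub_apply, pow_succ', Module.End.mul_apply, h.pow n (by omega),
      aeval_apply_eq ha]
    have h2 := h.one
    rw [show (⟨n, by omega⟩ : Fin (n + 1)) = Fin.last n from rfl, h2, ev1, sub_eq_zero]
    exact Finset.sum_congr rfl fun i _ => by rw [h.pow i i.2]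

theorem exists_chain1 (B : Basis (Fin (n + 1)) F V) (a : F[X]) : ∃ Z : End F V, IsChain1 B Z a := by
  let f : Fin (n + 1) → V := fun j => Fin.lastCases (motive := fun _ => V) (ev1 B a) (fun i => B i.succ) j
  refine ⟨B.constr F f, ⟨fun i => ?_, ?_⟩⟩
  · rw [B.constr_basis]
    simp only [f, Fin.lastCases_castSucc]
  · rw [B.constr_basis]
    simp only [f, Fin.lastCases_last]

end Chain

section Basis

variable [FiniteDimensional F V] {n : ℕ} {W : Submodule F V} {x : V}

/-- a basis of `V` from `x` and a basis of `W` -/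
theorem exists_basis1 (hV : finrank F V = n + 1) (hind : ∀ s : F, s • x ∈ W → s = 0)
    (β : Fin n → V) (hβ : LinearIndependent F β) (hβW : ∀ i, β i ∈ W) :
    ∃ B : Basis (Fin (n + 1)) F V, B 0 = x ∧ ∀ i : Fin n, B i.succ = β i := by
  let f : Fin (n + 1) → V := fun j => Fin.cases (motive := fun _ => V) x β j
  have f0 : f 0 = x := by simp only [f, Fin.cases_zero]
  have f1 : ∀ i : Fin n, f i.succ = β i := fun i => by simp only [f, Fin.cases_succ]
  have hli : LinearIndependent F f := by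
    rw [Fintype.linearIndependent_iff]
    intro g hg
    rw [Fin.sum_univ_succ, f0] at hg
    simp only [f1] at hg
    have hw : ∑ i : Fin n, g i.succ • β i ∈ W :=
      Submodule.sum_mem _ fun i _ => W.smul_mem _ (hβW i)
    have h2 : g 0 • x ∈ W := by
      have : g 0 • x = - ∑ i : Fin n, g i.succ • β i := by
        rw [eq_neg_iff_add_eq_zero, hg]
      rw [this]; exact W.neg_mem hw
    have h3 := hind _ h2
    rw [h3, zero_smul, zero_add] at hg
    have h5 := Fintype.linearIndependent_iff.1 hβ _ hg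
    intro i
    refine Fin.cases h3 (fun j => ?_) i
    exact h5 j
  let B := basisOfLinearIndependentOfCardEqFinrank hli (by rw [Fintype.card_fin, hV])
  have hB : ∀ i, B i = f i := fun i => by
    rw [coe_basisOfLinearIndependentOfCardEqFinrank]
  exact ⟨B, by rw [hB, f0], fun i => by rw [hB, f1]⟩

end Basis

section Main

variable [FiniteDimensional F V] {n : ℕ}

theorem sub_monic {p : F[X]} (hp : p.Monic) (hd : p.natDegree = n + 1) : (X ^ (n + 1) - p).natDegree < n + 1 := by
  refine Nat.lt_succ_of_le ?_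
  rw [natDegree_le_iff_coeff_eq_zero]
  intro N hN
  rw [coeff_sub, coeff_X_pow]
  by_cases h : N = n + 1
  · subst h
    have h1 : p.coeff (n + 1) = 1 := by rwa [Monic, leadingCoeff, hd] at hp
    rw [if_pos rfl, h1, sub_self]
  · rw [if_neg h, coeff_eq_zero_of_natDegree_lt (by omega), sub_zero]

/-- a rank one endomorphism -/
theorem rank_one_form {N : End F V} (hr : finrank F (LinearMap.range N) = 1) :
    ∃ (f : V →ₗ[F] F) (u : V), u ≠ 0 ∧ N = f.smulRight u := by
  obtain ⟨u', hu', hu⟩ := finrank_eq_one_iff'.1 hr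
  choose c hc using hu
  let N' : V →ₗ[F] LinearMap.range N := N.rangeRestrict
  have hu0 : (u' : V) ≠ 0 := fun h => hu' (Subtype.ext h)
  have key : ∀ v, N v = c (N' v) • (u' : V) := fun v => by
    have := hc (N' v)
    exact (congrArg (fun w : LinearMap.range N => (w : V)) this).symm
  refine ⟨{ toFun := fun v => c (N' v), map_add' := fun v w => ?_, map_smul' := fun r v => ?_ }, u', hu0, ?_⟩
  · have h1 : (c (N' (v + w)) - (c (N' v) + c (N' w))) • (u' : V) = 0 := by
      rw [sub_smul, add_smul, ← key, ← key, ← key, map_add, sub_self]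
    exact sub_eq_zero.1 ((smul_eq_zero.1 h1).resolve_right hu0)
  · have h1 : (c (N' (r • v)) - r • c (N' v)) • (u' : V) = 0 := by
      rw [sub_smul, smul_assoc, ← key, ← key, map_smul, sub_self]
    exact sub_eq_zero.1 ((smul_eq_zero.1 h1).resolve_right hu0)
  · ext v
    exact key v

theorem exists_rank_one (hn : 1 ≤ n) (hV : finrank F V = n + 1) {A : End F V}
    (hr : finrank F (LinearMap.range (A - 1)) = 1) {p g : F[X]} (hp : p.Monic) (hpd : p.natDegree = n + 1)
    (hg : g.Monic) (hgd : g.natDegree = n + 1) (hg0 : g.coeff 0 ≠ 0) (hdet : p.coeff 0 = LinearMap.det A * g.coeff 0)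
    (hne : p ≠ g) : ∃ Z : End F V, LinearMap.charpoly (A * Z) = p ∧ LinearMap.charpoly Z = g := by
  obtain ⟨f, u, hu, hN⟩ := rank_one_form hr
  have hAN : ∀ v, A v = v + f v • u := fun v => by
    have := congrArg (fun T : End F V => T v) hN
    simp only [LinearMap.sub_apply, Module.End.one_apply, LinearMap.smulRight_apply] at this
    rw [← this]; abel
  have hdetA : LinearMap.det A = 1 + f u := by
    have h1 : A = LinearMap.transvection f u := by
      ext v; rw [hAN, LinearMap.transvection.apply]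
    rw [h1, LinearMap.transvection.det]
  have hf : f ≠ 0 := by
    rintro rfl
    rw [hN] at hr
    have : (LinearMap.smulRight (0 : V →ₗ[F] F) u) = 0 := by ext v; simp
    rw [this, LinearMap.range_zero, finrank_bot] at hr
    exact absurd hr (by norm_num)
  obtain ⟨W, hW⟩ : ∃ W, W = LinearMap.ker f := ⟨_, rfl⟩
  have hWd : finrank F W = n := by
    have h1 := LinearMap.finrank_range_add_finrank_ker f
    rw [LinearMap.range_eq_top.2 (LinearMap.surjective hf), finrank_top, finrank_self, hV] at h1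
    rw [hW]; omega
  have hfW : ∀ v ∈ W, f v = 0 := fun v hv => by rw [hW] at hv; exact hv
  -- the polynomials
  obtain ⟨a, ha⟩ : ∃ a, a = X ^ (n + 1) - g := ⟨_, rfl⟩
  obtain ⟨a', ha'⟩ : ∃ a', a' = X ^ (n + 1) - p := ⟨_, rfl⟩
  have had : a.natDegree < n + 1 := by rw [ha]; exact sub_monic hg hgd
  have ha'd : a'.natDegree < n + 1 := by rw [ha']; exact sub_monic hp hpd
  have ha0 : a.coeff 0 = - g.coeff 0 := by
    rw [ha, coeff_sub, coeff_X_pow, if_neg (by omega), zero_sub]
  -- the vector `x`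
  obtain ⟨x, β, hxW, hT⟩ : ∃ (x : V) (β : Basis (Fin n) F W), x ∉ W ∧ ∃ w : F,
      a.coeff 0 • (f x • u) = w • x + ∑ i : Fin n, (a' - a).coeff ((i : ℕ) + 1) • (β i : V) := by
    by_cases hη : (fun i : Fin n => (a' - a).coeff ((i : ℕ) + 1)) = 0
    · -- only the constant coefficients differ
      have h1 : f u ≠ 0 := by
        intro h0
        rw [h0, add_zero] at hdetA
        rw [hdetA, one_mul] at hdet
        apply hne
        have h2 : a' - a = g - p := by rw [ha, ha']; ring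
        rw [h2] at hη
        ext i
        rcases Nat.eq_zero_or_pos i with rfl | hi
        · exact hdet
        · obtain ⟨j, rfl⟩ : ∃ j, i = j + 1 := ⟨i - 1, by omega⟩
          by_cases hj : j < n
          · have h3 := congrFun hη ⟨j, hj⟩
            simp only [coeff_sub, Pi.zero_apply] at h3
            exact (sub_eq_zero.1 h3).symm
          · rcases Nat.lt_or_ge (j + 1) (n + 2) with h | h
            · have : j = n := by (clear * - hj h; omega)
              subst this
              have h4 : p.coeff (j + 1) = 1 := by rwa [Monic, leadingCoeff, hpd] at hp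
              have h5 : g.coeff (j + 1) = 1 := by rwa [Monic, leadingCoeff, hgd] at hg
              rw [h4, h5]
            · rw [coeff_eq_zero_of_natDegree_lt (by omega), coeff_eq_zero_of_natDegree_lt (by omega)]
      refine ⟨u, Module.finBasisOfFinrankEq F W hWd, fun h => h1 (by rw [hW] at h; exact h), a.coeff 0 * f u, ?_⟩
      rw [Finset.sum_eq_zero (fun i _ => by rw [show (a' - a).coeff ((i : ℕ) + 1) = 0 from congrFun hη i, zero_smul]),
        add_zero, mul_smul]
    · -- `x` outside of `W` and of the line of `u`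
      obtain ⟨x, hxW, hxR⟩ : ∃ x, x ∉ W ∧ x ∉ Submodule.span F {u} := exists_notMem_two
        (fun h => by rw [h, finrank_top] at hWd; omega)
        (fun h => by
          have h2 : finrank F (Submodule.span F {u}) ≤ 1 := le_trans (finrank_span_le_card ({u} : Set V)) (by simp)
          rw [h, finrank_top] at h2; omega)
      have hfx : f x ≠ 0 := fun h => hxW (by rw [hW]; exact h)
      have hω : u - (f u / f x) • x ∈ W := by
        rw [hW, LinearMap.mem_ker, map_sub, map_smul, smul_eq_mul, div_mul_cancel₀ _ hfx, sub_self]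
      have hω0 : (⟨(a.coeff 0 * f x) • (u - (f u / f x) • x), W.smul_mem _ hω⟩ : W) ≠ 0 := by
        intro h
        have h1 : (a.coeff 0 * f x) • (u - (f u / f x) • x) = 0 := congrArg (fun w : W => (w : V)) h
        have h2 : u - (f u / f x) • x = 0 := (smul_eq_zero.1 h1).resolve_left
          (mul_ne_zero (by rw [ha0]; exact neg_ne_zero.2 hg0) hfx)
        rw [sub_eq_zero] at h2
        have h3 : f u / f x ≠ 0 := fun h => hu (by rw [h2, h, zero_smul])
        apply hxR
        have : x = (f u / f x)⁻¹ • u := by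
          have h4 := congrArg (fun v => (f u / f x)⁻¹ • v) h2
          simp only [smul_smul, inv_mul_cancel₀ h3, one_smul] at h4
          exact h4.symm
        rw [this]
        exact Submodule.smul_mem _ _ (Submodule.mem_span_singleton_self u)
      obtain ⟨T, hT⟩ := exists_equiv_pair (F := F) (U := Fin n → F) (W := W) (ι := Fin 1)
        (u := ![fun i : Fin n => (a' - a).coeff ((i : ℕ) + 1)])
        (w := ![⟨(a.coeff 0 * f x) • (u - (f u / f x) • x), W.smul_mem _ hω⟩])
        (by rw [Module.finrank_fin_fun, hWd]) (LinearIndependent.of_subsingleton 0 hη)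
        (LinearIndependent.of_subsingleton 0 hω0)
      have hT0 : T (fun i : Fin n => (a' - a).coeff ((i : ℕ) + 1)) =
        ⟨(a.coeff 0 * f x) • (u - (f u / f x) • x), W.smul_mem _ hω⟩ := hT 0
      refine ⟨x, (Pi.basisFun F (Fin n)).map T, hxW, a.coeff 0 * f u, ?_⟩
      have hβ : ∀ h : Fin n → F, ∑ i, h i • (((Pi.basisFun F (Fin n)).map T i : W) : V) = (T h : V) := by
        intro h
        have h1 : T h = ∑ i, h i • (Pi.basisFun F (Fin n)).map T i := by
          conv_lhs => rw [← (Pi.basisFun F (Fin n)).sum_repr h]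
          rw [map_sum]
          exact Finset.sum_congr rfl fun i _ => by rw [map_smul, Basis.map_apply]; rfl
        rw [h1, Submodule.coe_sum]
        rfl
      rw [hβ, hT0]
      show _ = (a.coeff 0 * f u) • x + (a.coeff 0 * f x) • (u - (f u / f x) • x)
      rw [smul_sub, smul_smul, smul_smul, mul_assoc (a.coeff 0) (f x), mul_div_cancel₀ _ hfx]
      abel
  obtain ⟨w, hw⟩ := hT
  obtain ⟨B, hBx, hBβ⟩ := exists_basis1 (W := W) hV (x := x) (fun s hs => by
      by_contra h0
      apply hxW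
      have h1 : x = s⁻¹ • (s • x) := by rw [smul_smul, inv_mul_cancel₀ h0, one_smul]
      rw [h1]
      exact W.smul_mem _ hs) (fun i => (β i : V))
    (β.linearIndependent.map' W.subtype (Submodule.ker_subtype W)) (fun i => (β i).2)
  have hev : ∀ h : F[X], ev1 B h = h.coeff 0 • x + ∑ i : Fin n, h.coeff ((i : ℕ) + 1) • (β i : V) := by
    intro h
    rw [ev1, Fin.sum_univ_succ, hBx]
    simp only [hBβ]
    rfl
  obtain ⟨Z, hZ⟩ := exists_chain1 B a
  obtain ⟨ε, hε⟩ : ∃ ε, ε = a.coeff 0 + w - a'.coeff 0 := ⟨_, rfl⟩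
  have hchain : IsChain1 B (A * Z) (a' + C ε) := by
    refine ⟨fun i => ?_, ?_⟩
    · rw [Module.End.mul_apply, hZ.step i, hBβ, hAN]
      rw [hfW _ (β i).2, zero_smul, add_zero]
    · rw [Module.End.mul_apply, hZ.one, hAN, hev (a' + C ε)]
      have h1 : ∀ i : Fin n, (a' + C ε).coeff ((i : ℕ) + 1) = a.coeff ((i : ℕ) + 1) + (a' - a).coeff ((i : ℕ) + 1) :=
        fun i => by rw [coeff_add, coeff_C_succ, add_zero, coeff_sub]; ring
      have h2 : (a' + C ε).coeff 0 = a.coeff 0 + w := by rw [coeff_add, coeff_C_zero, hε]; ring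
      simp only [h1, h2, add_smul, Finset.sum_add_distrib]
      have h3 : f (ev1 B a) = a.coeff 0 * f x := by
        rw [hev a, map_add, map_smul, map_sum, Finset.sum_eq_zero (fun i _ => by
          rw [map_smul, hfW _ (β i).2, smul_zero]), add_zero, smul_eq_mul]
      rw [h3, mul_smul, hw, hev a]
      abel
  have hcp := hchain.charpoly (lt_of_le_of_lt (natDegree_add_le _ _) (max_lt ha'd (by rw [natDegree_C]; omega)))
  have hcp' : LinearMap.charpoly (A * Z) = p - C ε := by
    rw [hcp, ha']; ring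
  have hZc : LinearMap.charpoly Z = g := by
    rw [hZ.charpoly had, ha]; ring
  refine ⟨Z, ?_, hZc⟩
  have h1 := coeff_zero_mul A Z
  rw [hcp', hZc, ← hdet, coeff_sub, coeff_C_zero] at h1
  have h2 : ε = 0 := by linear_combination -h1
  rw [hcp', h2, C_0, sub_zero]

end Main

end Cfsg.Agent.H130.War
end

-- part: H130/War/RankTwoF2
section
/-!
# `A - 1` of rank 2 in dimension 4 over the field with two elements (S2453)

`exists_rank_two_F2` : `p`, `g` monic of degree 4 with the same coefficient of `X ^ 2`, `p(0) = det A * g(0) ≠ 0`.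
-/

set_option autoImplicit false
set_option linter.unusedSectionVars false

namespace Cfsg.Agent.H130.War

open Polynomial Module

variable {F V : Type*} [Field F] [AddCommGroup V] [Module F V]

section Pol

variable {p g : F[X]}

theorem aa_one (a₀ t : F) (τ : F) : (aa 1 a₀ t (fun _ : Fin 1 => τ)).coeff 1 = τ := aa_coeff_mid a₀ t _ 0

theorem aa_two (a₀ t : F) (τ : F) : (aa 1 a₀ t (fun _ : Fin 1 => τ)).coeff 2 = t := aa_coeff_top a₀ t _

theorem cc_one (d : F) (a g : F[X]) : (cc 1 1 d a g).coeff 1 = - a.coeff 0 + d * a.coeff 1 - g.coeff 1 := by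
  have h := congrArg (fun f : F[X] => f.coeff 1) (cc_mul (n := 1) (one_ne_zero (α := F)) d a g)
  have e : (X - C d) * (X ^ (1 + 2) - a) - g = X * (X ^ 3) - X * a - C d * X ^ 3 + C d * a - g := by ring
  rw [e] at h
  simp only [coeff_sub, coeff_add, coeff_C_mul, coeff_X_mul, coeff_X_pow, one_mul] at h
  rw [h]
  norm_num only [_root_.ite_false, _root_.zero_sub, _root_.MulZeroClass.mul_zero, _root_.sub_zero]

theorem cc_two (d : F) (a g : F[X]) : (cc 1 1 d a g).coeff 2 = - a.coeff 1 + d * a.coeff 2 - g.coeff 2 := by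
  have h := congrArg (fun f : F[X] => f.coeff 2) (cc_mul (n := 1) (one_ne_zero (α := F)) d a g)
  have e : (X - C d) * (X ^ (1 + 2) - a) - g = X * (X ^ 3) - X * a - C d * X ^ 3 + C d * a - g := by ring
  rw [e] at h
  simp only [coeff_sub, coeff_add, coeff_C_mul, coeff_X_mul, coeff_X_pow, one_mul] at h
  rw [h]
  norm_num only [_root_.ite_false, _root_.zero_sub, _root_.MulZeroClass.mul_zero, _root_.sub_zero]

theorem li_of_det {h₁ h₂ : F[X]} (h : h₁.coeff 1 * h₂.coeff 2 - h₁.coeff 2 * h₂.coeff 1 ≠ 0) :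
    LinearIndependent F ![fun i : Fin (1 + 1) => h₁.coeff ((i : ℕ) + 1),
      fun i : Fin (1 + 1) => h₂.coeff ((i : ℕ) + 1)] := by
  rw [LinearIndependent.pair_iff]
  intro r s e
  have h0 := congrFun e 0
  have h1 := congrFun e 1
  simp only [Pi.add_apply, Pi.smul_apply, smul_eq_mul, Pi.zero_apply, Fin.val_zero, Fin.val_one, zero_add,
    show (1 + 1 : ℕ) = 2 from rfl] at h0 h1
  have h2 : r * (h₁.coeff 1 * h₂.coeff 2 - h₁.coeff 2 * h₂.coeff 1) = 0 := by
    linear_combination h₂.coeff 2 * h0 - h₂.coeff 1 * h1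
  have h3 : s * (h₁.coeff 1 * h₂.coeff 2 - h₁.coeff 2 * h₂.coeff 1) = 0 := by
    linear_combination h₁.coeff 1 * h1 - h₁.coeff 2 * h0
  exact ⟨(mul_eq_zero.1 h2).resolve_right h, (mul_eq_zero.1 h3).resolve_right h⟩

/-- the determinant for `b = b' = 1` -/
theorem li_cc {a₀ t σ a₀' t' τ d d' : F}
    (h : (τ - σ) * ((- τ + d' * t' - p.coeff 2) - (- σ + d * t - g.coeff 2)) -
      (t' - t) * ((- a₀' + d' * τ - p.coeff 1) - (- a₀ + d * σ - g.coeff 1)) ≠ 0) :
    LinearIndependent F ![fun i : Fin (1 + 1) =>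
        (aa 1 a₀' t' (fun _ : Fin 1 => τ) - aa 1 a₀ t (fun _ : Fin 1 => σ)).coeff ((i : ℕ) + 1),
      fun i : Fin (1 + 1) => (cc 1 1 d' (aa 1 a₀' t' (fun _ : Fin 1 => τ)) p -
        cc 1 1 d (aa 1 a₀ t (fun _ : Fin 1 => σ)) g).coeff ((i : ℕ) + 1)] := by
  apply li_of_det
  simp only [coeff_sub, cc_one, cc_two, aa_one, aa_two, aa_coeff_zero]
  exact h

end Pol

section Main

variable [FiniteDimensional F V]

/-- the core with `n = 1`, `b = b' = 1` -/
theorem core_one (hV : finrank F V = 4) {A : End F V} {W : Submodule F V} (hWd : finrank F W = 2)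
    (hWA : ∀ w ∈ W, A w = w) {x y : V} (hindW : ∀ s t : F, s • x + t • y ∈ W → s = 0 ∧ t = 0) {α₁ α₂ α₃ α₄ : F}
    {ω₀ ω₁ : V} (hω₀ : ω₀ ∈ W) (hω₁ : ω₁ ∈ W) (hω : ∀ r s : F, r • ω₀ + s • ω₁ = 0 → r = 0 ∧ s = 0)
    (hAx : A x = (1 + α₁) • x + ω₀ + α₂ • y) (hAy : A y = α₃ • x + ω₁ + (1 + α₄) • y) {p g : F[X]}
    (hp : p.Monic) (hpd : p.natDegree = 4) (hg : g.Monic) (hgd : g.natDegree = 4)
    (hg0 : g.coeff 0 ≠ 0) (hdet : p.coeff 0 = LinearMap.det A * g.coeff 0) {a₀ a₀' d d' σ τ t t' : F}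
    (ht : t = - g.coeff 3 - d) (ht' : t' = - p.coeff 3 - d') (eb : a₀ * α₂ + (1 + α₄) = 1)
    (ea : a₀' = a₀ * (1 + α₁) + α₃) (ed : d' = (d * a₀ - g.coeff 0) * α₂ + d * (1 + α₄))
    (h : (τ - σ) * ((- τ + d' * t' - p.coeff 2) - (- σ + d * t - g.coeff 2)) -
      (t' - t) * ((- a₀' + d' * τ - p.coeff 1) - (- a₀ + d * σ - g.coeff 1)) ≠ 0) :
    ∃ Z : End F V, LinearMap.charpoly (A * Z) = p ∧ LinearMap.charpoly Z = g := by
  have ha := aa_degree (n := 1) a₀ t (fun _ => σ)
  have ha' := aa_degree (n := 1) a₀' t' (fun _ => τ)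
  refine core (n := 1) hV hWd hWA hindW hω₀ hω₁ hω hAx hAy hg0 hdet (one_ne_zero (α := F)) (one_ne_zero (α := F))
    ha (c := cc 1 1 d (aa 1 a₀ t (fun _ => σ)) g) (cc_degree hg hgd ha (by rw [aa_coeff_top, ht]))
    ha' (c' := cc 1 1 d' (aa 1 a₀' t' (fun _ => τ)) p) (cc_degree hp hpd ha' (by rw [aa_coeff_top, ht']))
    (cc_char one_ne_zero d _ g) (cc_char one_ne_zero d' _ p) ?_ ?_ ?_ (li_cc h)
  · rw [aa_coeff_zero, one_mul, eb]
  · rw [aa_coeff_zero, aa_coeff_zero, one_mul, ea]
  · rw [cc_coeff_zero, aa_coeff_zero, inv_one, one_mul, ed]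

/-- first case: `R + W ≠ V` (any field) -/
theorem case_one (hV : finrank F V = 4) {A N : End F V} (hAN : ∀ v, A v = v + N v) {W R : Submodule F V}
    (hW : W = LinearMap.ker N) (hR : R = LinearMap.range N) (hWd : finrank F W = 2) (hRd : finrank F R = 2)
    (hne : R ⊔ W ≠ ⊤) {p g : F[X]}
    (hp : p.Monic) (hpd : p.natDegree = 4) (hg : g.Monic) (hgd : g.natDegree = 4)
    (hg0 : g.coeff 0 ≠ 0) (hdet : p.coeff 0 = LinearMap.det A * g.coeff 0) (h2 : p.coeff 2 = g.coeff 2) :
    ∃ Z : End F V, LinearMap.charpoly (A * Z) = p ∧ LinearMap.charpoly Z = g := by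
  have hs : ∀ (P : Submodule F V) (x : V), finrank F P < 3 → P ⊔ Submodule.span F {x} ≠ ⊤ := by
    intro P x hP h
    have h1 := Submodule.finrank_add_le_finrank_add_finrank P (Submodule.span F {x})
    rw [h, finrank_top] at h1
    have h2 : finrank F (Submodule.span F {x}) ≤ 1 := le_trans (finrank_span_le_card ({x} : Set V)) (by simp)
    omega
  have hlt : ∀ (P : Submodule F V) (x : V), x ∉ P → finrank F P < finrank F ↥(P ⊔ Submodule.span F {x}) := by
    intro P x hx
    apply Submodule.finrank_lt_finrank_of_lt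
    refine lt_of_le_of_ne le_sup_left fun h => hx ?_
    rw [h]
    exact Submodule.mem_sup_right (Submodule.mem_span_singleton_self x)
  -- `x`
  obtain ⟨x, hxW, hxR, hRle⟩ : ∃ x, x ∉ W ∧ x ∉ R ∧ R ≤ W ⊔ Submodule.span F {x} := by
    by_cases hRW : R ≤ W
    · have e : R = W := Submodule.eq_of_le_of_finrank_le hRW (by omega)
      obtain ⟨x, hx⟩ : ∃ x, x ∉ W := by
        by_contra h
        push Not at h
        have : W = ⊤ := eq_top_iff.2 fun v _ => h v
        rw [this, finrank_top] at hWd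
        omega
      exact ⟨x, hx, by rw [e]; exact hx, hRW.trans le_sup_left⟩
    · have hWR : ¬ W ≤ R := fun h => hRW (le_of_eq (Submodule.eq_of_le_of_finrank_le h (by omega)).symm)
      obtain ⟨r, hr, hrW⟩ := SetLike.not_le_iff_exists.1 hRW
      obtain ⟨w, hw, hwR⟩ := SetLike.not_le_iff_exists.1 hWR
      have hx1 : r + w ∉ W := fun h => hrW (by have := W.sub_mem h hw; rwa [add_sub_cancel_right] at this)
      have hx2 : r + w ∉ R := fun h => hwR (by have := R.sub_mem h hr; rwa [add_sub_cancel_left] at this)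
      refine ⟨r + w, hx1, hx2, ?_⟩
      have h1 : W ⊔ Submodule.span F {r + w} ≤ R ⊔ W := sup_le le_sup_right (by
        rw [Submodule.span_le, Set.singleton_subset_iff]
        exact Submodule.add_mem_sup hr hw)
      have h3 := hlt W _ hx1
      have h4 : finrank F ↥(R ⊔ W) < 4 := by
        rw [← hV]
        exact Submodule.finrank_lt hne
      have h5 : W ⊔ Submodule.span F {r + w} = R ⊔ W := Submodule.eq_of_le_of_finrank_le h1 (by omega)
      rw [h5]
      exact le_sup_left
  obtain ⟨y, hy⟩ : ∃ y, y ∉ W ⊔ Submodule.span F {x} := by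
    by_contra h
    push Not at h
    exact hs W x (by omega) (eq_top_iff.2 fun v _ => h v)
  have hyR : y ∉ R ⊔ Submodule.span F {x} := fun h => hy (sup_le hRle le_sup_right h)
  have hind : ∀ P : Submodule F V, x ∉ P → y ∉ P ⊔ Submodule.span F {x} → ∀ s t : F, s • x + t • y ∈ P → s = 0 ∧ t = 0 := by
    intro P hx hy s t h
    have ht : t = 0 := by
      by_contra ht
      apply hy
      have h1 : y = t⁻¹ • (s • x + t • y) + (-(t⁻¹ * s)) • x := by
        rw [smul_add, smul_smul, smul_smul, inv_mul_cancel₀ ht, one_smul, neg_smul]; abel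
      rw [h1]
      exact Submodule.add_mem_sup (P.smul_mem _ h) (Submodule.smul_mem _ _ (Submodule.mem_span_singleton_self x))
    refine ⟨?_, ht⟩
    by_contra hs0
    apply hx
    rw [ht, zero_smul, add_zero] at h
    have h1 : x = s⁻¹ • (s • x) := by rw [smul_smul, inv_mul_cancel₀ hs0, one_smul]
    rw [h1]
    exact P.smul_mem _ h
  have hindW := hind W hxW hy
  have hindR := hind R hxR hyR
  have hco : ∀ v, ∃ s : F, ∃ w ∈ W, N v = s • x + w := by
    intro v
    have h1 : N v ∈ W ⊔ Submodule.span F {x} := hRle (by rw [hR]; exact ⟨v, rfl⟩)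
    obtain ⟨w, hw, z, hz, e⟩ := Submodule.mem_sup.1 h1
    obtain ⟨s, rfl⟩ := Submodule.mem_span_singleton.1 hz
    exact ⟨s, w, hw, by rw [← e, add_comm]⟩
  obtain ⟨α₁, ω₀, hω₀, hNx⟩ := hco x
  obtain ⟨α₃, ω₁, hω₁, hNy⟩ := hco y
  have hNW : ∀ w ∈ W, N w = 0 := fun w hw => by rw [hW] at hw; exact hw
  have hω : ∀ r s : F, r • ω₀ + s • ω₁ = 0 → r = 0 ∧ s = 0 := by
    intro r s h
    have h1 : N (r • x + s • y) = (r * α₁ + s * α₃) • x + (0 : F) • y := by
      rw [map_add, map_smul, map_smul, hNx, hNy]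
      calc r • (α₁ • x + ω₀) + s • (α₃ • x + ω₁)
          = (r • ω₀ + s • ω₁) + ((r * α₁ + s * α₃) • x + (0 : F) • y) := by module
        _ = _ := by rw [h, zero_add]
    have h2 : N (r • x + s • y) ∈ R := by rw [hR]; exact ⟨_, rfl⟩
    have h3 := h2
    rw [h1] at h3
    obtain ⟨h4, -⟩ := hindR _ _ h3
    have h6 : r • x + s • y ∈ W := by
      rw [hW, LinearMap.mem_ker, h1, h4, zero_smul, zero_smul, add_zero]
    exact hindW _ _ h6
  have hAx : A x = (1 + α₁) • x + ω₀ + (0 : F) • y := by rw [hAN, hNx]; module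
  have hAy : A y = α₃ • x + ω₁ + (1 + (0 : F)) • y := by rw [hAN, hNy]; module
  have hWA : ∀ w ∈ W, A w = w := fun w hw => by rw [hAN, hNW w hw, add_zero]
  obtain ⟨K, hK⟩ : ∃ K : F, K = (p.coeff 3 - g.coeff 3) * (g.coeff 1 - p.coeff 1 - α₃) := ⟨_, rfl⟩
  obtain ⟨τ, hτ⟩ : ∃ τ : F, - τ * τ + K ≠ 0 := by
    by_cases h : K = 0
    · exact ⟨1, by rw [h, add_zero, mul_one]; exact neg_ne_zero.2 one_ne_zero⟩
    · exact ⟨0, by rw [mul_zero, zero_add]; exact h⟩
  refine core_one hV hWd hWA hindW hω₀ hω₁ hω hAx hAy hp hpd hg hgd hg0 hdet (a₀ := 0) (a₀' := α₃) (d := 0) (d' := 0)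
    (σ := 0) (τ := τ) rfl rfl (by ring) (by ring) (by ring) ?_
  intro h
  apply hτ
  rw [← h, hK, h2]
  ring

/-- second case: `R + W = V`, two elements -/
theorem case_two (hF : ∀ u : F, u = 0 ∨ u = 1) (hV : finrank F V = 4) {A N : End F V} (hAN : ∀ v, A v = v + N v)
    (hA : LinearMap.det A ≠ 0) {W R : Submodule F V}
    (hW : W = LinearMap.ker N) (hR : R = LinearMap.range N) (hWd : finrank F W = 2) (hRd : finrank F R = 2)
    (htop : R ⊔ W = ⊤) {p g : F[X]}
    (hp : p.Monic) (hpd : p.natDegree = 4) (hg : g.Monic) (hgd : g.natDegree = 4)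
    (hg0 : g.coeff 0 ≠ 0) (hdet : p.coeff 0 = LinearMap.det A * g.coeff 0) (h2 : p.coeff 2 = g.coeff 2) :
    ∃ Z : End F V, LinearMap.charpoly (A * Z) = p ∧ LinearMap.charpoly Z = g := by
  have htwo : (1 : F) + 1 = 0 := by
    rcases hF (1 + 1) with h | h
    · exact h
    · exfalso
      have : (1 : F) = 0 := by linear_combination h
      exact one_ne_zero this
  have hneg : ∀ u : F, -u = u := fun u => by linear_combination -(u * htwo)
  have hv2 : ∀ v : V, v + v = 0 := fun v => by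
    have : v + v = (1 + 1 : F) • v := by rw [add_smul, one_smul]
    rw [this, htwo, zero_smul]
  have hinf : R ⊓ W = ⊥ := by
    have h1 := Submodule.finrank_sup_add_finrank_inf_eq R W
    rw [htop, finrank_top, hV, hRd, hWd] at h1
    exact Submodule.finrank_eq_zero.1 (by omega)
  have hA0 : ∀ v, A v = 0 → v = 0 := fun v hv => by
    have := (LinearMap.equivOfDetNeZero A hA).injective
    exact this (by rw [map_zero]; exact hv)
  have hRW0 : ∀ v ∈ R, N v = 0 → v = 0 := fun v hv h => by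
    have : v ∈ R ⊓ W := ⟨hv, by rw [hW]; exact h⟩
    rwa [hinf, Submodule.mem_bot] at this
  have hNR : ∀ v, N v ∈ R := fun v => by rw [hR]; exact ⟨v, rfl⟩
  obtain ⟨r, hr, hr0⟩ : ∃ r ∈ R, r ≠ 0 := by
    apply Submodule.exists_mem_ne_zero_of_ne_bot
    intro h
    rw [h, finrank_bot] at hRd
    omega
  have hNr0 : N r ≠ 0 := fun h => hr0 (hRW0 r hr h)
  have hfix : ∀ v ∈ R, v ≠ 0 → N v ≠ v := fun v _ hv0 h => hv0 (hA0 v (by rw [hAN, h, hv2]))
  have hsum : ∀ u v : V, u + v = 0 → u = v := fun u v h => by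
    have : u = u + v + v := by rw [add_assoc, hv2, add_zero]
    rw [this, h, zero_add]
  have hNN : N (N r) = r + N r := by
    -- `R` is spanned by `r` and `N r`
    have hli : LinearIndependent F ![r, N r] := by
      rw [LinearIndependent.pair_iff]
      intro s t h
      rcases hF s with rfl | rfl <;> rcases hF t with rfl | rfl
      · exact ⟨rfl, rfl⟩
      · rw [zero_smul, one_smul, zero_add] at h; exact absurd h hNr0
      · rw [zero_smul, one_smul, add_zero] at h; exact absurd h hr0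
      · rw [one_smul, one_smul] at h; exact absurd (hsum _ _ h).symm (hfix r hr hr0)
    have hspan : Submodule.span F {r, N r} = R := by
      apply Submodule.eq_of_le_of_finrank_le
      · rw [Submodule.span_le]
        intro v hv
        rcases hv with rfl | rfl
        · exact hr
        · exact hNR _
      · have h1 := finrank_span_eq_card hli
        rw [Matrix.range_cons, Matrix.range_cons, Matrix.range_empty, Set.union_empty, Fintype.card_fin] at h1
        rw [hRd]
        exact le_of_eq h1.symm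
    have hmem : N (N r) ∈ Submodule.span F {r, N r} := by rw [hspan]; exact hNR _
    obtain ⟨s, t, e⟩ := Submodule.mem_span_pair.1 hmem
    have hNNr0 : N (N r) ≠ 0 := fun h => hNr0 (hRW0 _ (hNR r) h)
    rcases hF s with rfl | rfl <;> rcases hF t with rfl | rfl
    · rw [zero_smul, zero_smul, add_zero] at e; exact absurd e.symm hNNr0
    · rw [zero_smul, one_smul, zero_add] at e
      exact absurd e.symm (hfix _ (hNR r) hNr0)
    · rw [zero_smul, one_smul, add_zero] at e
      exfalso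
      have h3 : N (r + N r) = r + N r := by rw [map_add, ← e, add_comm]
      have h4 : r + N r ∈ R := R.add_mem hr (hNR r)
      exact hfix _ h4 (fun h => hfix r hr hr0 (hsum _ _ h).symm) h3
    · rw [one_smul, one_smul] at e; exact e.symm
  let β₀ := Module.finBasisOfFinrankEq F W hWd
  obtain ⟨w, hw⟩ : ∃ w : V, w = (β₀ 0 : V) := ⟨_, rfl⟩
  obtain ⟨w', hw'⟩ : ∃ w' : V, w' = (β₀ 1 : V) := ⟨_, rfl⟩
  have hwW : w ∈ W := by rw [hw]; exact (β₀ 0).2
  have hw'W : w' ∈ W := by rw [hw']; exact (β₀ 1).2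
  have hwli : ∀ s t : F, s • w + t • w' = 0 → s = 0 ∧ t = 0 := by
    intro s t h
    have h1 := Fintype.linearIndependent_iff.1 β₀.linearIndependent ![s, t] (by
      apply Subtype.ext
      rw [Fin.sum_univ_two, Submodule.coe_add, Submodule.coe_smul, Submodule.coe_smul, ← hw, ← hw']
      exact h)
    exact ⟨h1 0, h1 1⟩
  have hNW : ∀ w ∈ W, N w = 0 := fun w hw => by rw [hW] at hw; exact hw
  have hWA : ∀ w ∈ W, A w = w := fun w hw => by rw [hAN, hNW w hw, add_zero]
  have hAx : A (r + w) = (1 + (1 : F)) • (r + w) + (w + w') + (1 : F) • (r + N r + w') := by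
    rw [map_add, hWA w hwW, hAN, htwo, zero_smul, one_smul, zero_add]
    calc r + N r + w = r + N r + w + (w' + w') := by rw [hv2, add_zero]
      _ = _ := by abel
  have hAy : A (r + N r + w') = (1 : F) • (r + w) + w + (1 + (0 : F)) • (r + N r + w') := by
    rw [map_add, hWA w' hw'W, hAN, map_add, hNN, add_zero, one_smul, one_smul]
    calc r + N r + (N r + (r + N r)) + w' = (r + r) + (N r + N r) + N r + w' := by abel
      _ = N r + w' := by rw [hv2, hv2, zero_add, zero_add]
      _ = (r + r) + (w + w) + N r + w' := by rw [hv2, hv2, zero_add, zero_add]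
      _ = _ := by abel
  have hindW : ∀ s t : F, s • (r + w) + t • (r + N r + w') ∈ W → s = 0 ∧ t = 0 := by
    intro s t h
    have h1 : s • r + t • (r + N r) ∈ W := by
      have : s • r + t • (r + N r) = (s • (r + w) + t • (r + N r + w')) - (s • w + t • w') := by module
      rw [this]
      exact W.sub_mem h (W.add_mem (W.smul_mem _ hwW) (W.smul_mem _ hw'W))
    have h3 : s • r + t • (r + N r) ∈ R := R.add_mem (R.smul_mem _ hr) (R.smul_mem _ (R.add_mem hr (hNR r)))
    have h4 : s • r + t • (r + N r) = 0 := by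
      have : s • r + t • (r + N r) ∈ R ⊓ W := ⟨h3, h1⟩
      rwa [hinf, Submodule.mem_bot] at this
    rcases hF s with rfl | rfl <;> rcases hF t with rfl | rfl
    · exact ⟨rfl, rfl⟩
    · rw [zero_smul, one_smul, zero_add] at h4; exact absurd (hsum _ _ h4).symm (hfix r hr hr0)
    · rw [zero_smul, one_smul, add_zero] at h4; exact absurd h4 hr0
    · rw [one_smul, one_smul, ← add_assoc, hv2, zero_add] at h4; exact absurd h4 hNr0
  have hω : ∀ u v : F, u • (w + w') + v • w = 0 → u = 0 ∧ v = 0 := by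
    intro u v h
    have h1 : (u + v) • w + u • w' = 0 := by rw [← h]; module
    obtain ⟨h3, h4⟩ := hwli _ _ h1
    rw [h4, zero_add] at h3
    exact ⟨h4, h3⟩
  have hg1 : g.coeff 0 = 1 := (hF _).resolve_left hg0
  by_cases h3 : g.coeff 3 = p.coeff 3
  · refine core_one hV hWd hWA hindW (W.add_mem hwW hw'W) hwW hω hAx hAy hp hpd hg hgd hg0 hdet (a₀ := 0) (a₀' := 1)
      (d := 0) (d' := 1) (σ := p.coeff 1 - g.coeff 1) (τ := p.coeff 1 - g.coeff 1) rfl rfl (by ring) (by ring)
      (by rw [hg1]; linear_combination htwo) ?_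
    have : (p.coeff 1 - g.coeff 1 - (p.coeff 1 - g.coeff 1)) * ((-(p.coeff 1 - g.coeff 1) + 1 * (-p.coeff 3 - 1) -
        p.coeff 2) - (-(p.coeff 1 - g.coeff 1) + 0 * (-g.coeff 3 - 0) - g.coeff 2)) -
        ((-p.coeff 3 - 1) - (-g.coeff 3 - 0)) * ((-1 + 1 * (p.coeff 1 - g.coeff 1) - p.coeff 1) -
          (-0 + 0 * (p.coeff 1 - g.coeff 1) - g.coeff 1)) = -1 := by
      rw [h3]; ring
    rw [this]
    exact neg_ne_zero.2 one_ne_zero
  · have hcase : ∃ d d' : F, d' = 1 + d ∧ g.coeff 3 = d ∧ p.coeff 3 = d' := by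
      rcases hF (g.coeff 3) with h | h <;> rcases hF (p.coeff 3) with h' | h'
      · exact absurd (h.trans h'.symm) h3
      · exact ⟨0, 1, by ring, h, h'⟩
      · exact ⟨1, 0, by rw [htwo], h, h'⟩
      · exact absurd (h.trans h'.symm) h3
    obtain ⟨d, d', hd, hgd3, hpd3⟩ := hcase
    refine core_one hV hWd hWA hindW (W.add_mem hwW hw'W) hwW hω hAx hAy hp hpd hg hgd hg0 hdet (a₀ := 0) (a₀' := 1)
      (d := d) (d' := d') (σ := 0) (τ := 1) (t := 0) (t' := 0)
      (by rw [hgd3]; linear_combination d * htwo) (by rw [hpd3]; linear_combination d' * htwo) (by ring) (by ring)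
      (by rw [hg1, hd]; linear_combination htwo) ?_
    have : ((1 : F) - 0) * ((-1 + d' * 0 - p.coeff 2) - (-0 + d * 0 - g.coeff 2)) -
        (0 - 0) * ((-1 + d' * 1 - p.coeff 1) - (-0 + d * 0 - g.coeff 1)) = -1 := by
      rw [h2]; ring
    rw [this]
    exact neg_ne_zero.2 one_ne_zero

/-- **dimension 4, two elements** -/
theorem exists_rank_two_F2 (hF : ∀ u : F, u = 0 ∨ u = 1) (hV : finrank F V = 4) {A : End F V}
    (hA : LinearMap.det A ≠ 0) (hr : finrank F (LinearMap.range (A - 1)) = 2) {p g : F[X]}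
    (hp : p.Monic) (hpd : p.natDegree = 4) (hg : g.Monic) (hgd : g.natDegree = 4)
    (hg0 : g.coeff 0 ≠ 0) (hdet : p.coeff 0 = LinearMap.det A * g.coeff 0) (h2 : p.coeff 2 = g.coeff 2) :
    ∃ Z : End F V, LinearMap.charpoly (A * Z) = p ∧ LinearMap.charpoly Z = g := by
  obtain ⟨N, hN⟩ : ∃ N, N = A - 1 := ⟨_, rfl⟩
  have hAN : ∀ v, A v = v + N v := fun v => by rw [hN, LinearMap.sub_apply, Module.End.one_apply]; abel
  rw [← hN] at hr
  have hWd : finrank F (LinearMap.ker N) = 2 := by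
    have := LinearMap.finrank_range_add_finrank_ker N
    omega
  by_cases h : LinearMap.range N ⊔ LinearMap.ker N = ⊤
  · exact case_two hF hV hAN hA rfl rfl hWd hr h hp hpd hg hgd hg0 hdet h2
  · exact case_one hV hAN rfl rfl hWd hr h hp hpd hg hgd hg0 hdet h2

end Main

end Cfsg.Agent.H130.War
end

-- part: H130/War/RankLe
section
/-!
# `A - c` of rank 1 or 2: products with given characteristic polynomials (S2453)

`exists_mul_rank` (`m ≥ 5`, `F` finite, rank ≤ 2), `exists_mul_rank_one` (`m ≥ 2`, `F` any field, rank 1), and the forms for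
linear maps `exists_rank_le_two`, `exists_rank_le_one`.
-/

set_option autoImplicit false
set_option linter.unusedSectionVars false

namespace Cfsg.Agent.H130.War

open Polynomial Module

set_option linter.unusedSimpArgs false

section Scale

variable {F : Type*} [Field F]

theorem Mat.charpoly_smul {ι : Type*} [Fintype ι] [DecidableEq ι] {c : F} (hc : c ≠ 0) (M : Matrix ι ι F) :
    (c • M).charpoly = C (c ^ Fintype.card ι) * M.charpoly.comp (C c⁻¹ * X) := by
  have h1 : Matrix.charmatrix (c • M) = C c • (Matrix.charmatrix M).map (Polynomial.compRingHom (C c⁻¹ * X : F[X])) := by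
    ext i j : 1
    by_cases hij : i = j
    · subst hij
      simp only [Matrix.charmatrix_apply_eq, Matrix.smul_apply, Matrix.map_apply, map_sub, coe_compRingHom_apply, X_comp,
        C_comp, smul_eq_mul, C_mul, mul_sub, ← mul_assoc, ← C_mul, mul_inv_cancel₀ hc, C_1, one_mul]
    · simp only [Matrix.charmatrix_apply_ne _ _ _ hij, Matrix.smul_apply, Matrix.map_apply, map_neg, coe_compRingHom_apply,
        C_comp, smul_eq_mul, C_mul, mul_neg]
  rw [Matrix.charpoly, h1, Matrix.det_smul, ← RingHom.mapMatrix_apply, ← RingHom.map_det, C_pow]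
  rfl

/-- `c⁻ᵐ p(c x)` -/
noncomputable def sc (m : ℕ) (c : F) (p : F[X]) : F[X] := C (c⁻¹ ^ m) * p.comp (C c * X)

theorem sc_coeff (m : ℕ) (c : F) (p : F[X]) (i : ℕ) : (sc m c p).coeff i = c⁻¹ ^ m * (c ^ i * p.coeff i) := by
  rw [sc, coeff_C_mul, comp_C_mul_X_coeff]; ring

theorem sc_monic {m : ℕ} {c : F} (hc : c ≠ 0) {p : F[X]} (hp : p.Monic) (hd : p.natDegree = m) :
    (sc m c p).Monic ∧ (sc m c p).natDegree = m := by
  have h1 : (sc m c p).coeff m = 1 := by
    rw [sc_coeff]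
    have : p.coeff m = 1 := by rwa [Monic, leadingCoeff, hd] at hp
    rw [this, mul_one, inv_pow, inv_mul_cancel₀ (pow_ne_zero _ hc)]
  have h2 : (sc m c p).natDegree ≤ m := by
    rw [natDegree_le_iff_coeff_eq_zero]
    intro N hN
    rw [sc_coeff, coeff_eq_zero_of_natDegree_lt (by omega), mul_zero, mul_zero]
  exact ⟨monic_of_natDegree_le_of_coeff_eq_one m h2 h1, natDegree_eq_of_le_of_coeff_ne_zero h2 (by rw [h1]; exact one_ne_zero)⟩

theorem sc_comp {m : ℕ} {c : F} (hc : c ≠ 0) (p : F[X]) : C (c ^ m) * (sc m c p).comp (C c⁻¹ * X) = p := by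
  rw [sc, mul_comp, C_comp, ← mul_assoc, ← C_mul, ← mul_pow, mul_inv_cancel₀ hc, one_pow, C_1, one_mul, comp_assoc,
    mul_comp, C_comp, X_comp, ← mul_assoc, ← C_mul, mul_inv_cancel₀ hc, C_1, one_mul, comp_X]

variable {V : Type*} [AddCommGroup V] [Module F V] [FiniteDimensional F V]

theorem charpoly_smul {c : F} (hc : c ≠ 0) (f : End F V) :
    LinearMap.charpoly (c • f) = C (c ^ finrank F V) * (LinearMap.charpoly f).comp (C c⁻¹ * X) := by
  let b := Module.finBasis F V
  rw [← LinearMap.charpoly_toMatrix (c • f) b, ← LinearMap.charpoly_toMatrix f b, map_smul, Mat.charpoly_smul hc,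
    Fintype.card_fin]

/-- from `1` to the scalar `c` -/
theorem of_scale {m : ℕ} (hV : finrank F V = m) {A : End F V} {c : F} (hc : c ≠ 0) {p g : F[X]}
    (h : ∃ Z : End F V, LinearMap.charpoly ((c⁻¹ • A) * Z) = sc m c p ∧ LinearMap.charpoly Z = g) :
    ∃ Z : End F V, LinearMap.charpoly (A * Z) = p ∧ LinearMap.charpoly Z = g := by
  obtain ⟨Z, h1, h2⟩ := h
  refine ⟨Z, ?_, h2⟩
  have h3 : A * Z = c • ((c⁻¹ • A) * Z) := by rw [smul_mul_assoc, smul_smul, mul_inv_cancel₀ hc, one_smul]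
  rw [h3, charpoly_smul hc, h1, hV, sc_comp hc]

theorem sc_det {m : ℕ} (hV : finrank F V = m) {A : End F V} {c : F} {p g : F[X]}
    (hdet : p.coeff 0 = LinearMap.det A * g.coeff 0) :
    (sc m c p).coeff 0 = LinearMap.det (c⁻¹ • A) * g.coeff 0 := by
  rw [sc_coeff, LinearMap.det_smul, hV, pow_zero, one_mul, hdet]; ring

theorem sc_ne {m : ℕ} {c : F} (hc : c ≠ 0) {p g : F[X]} (hne : p ≠ C (c ^ m) * g.comp (C c⁻¹ * X)) : sc m c p ≠ g := by
  rintro rfl
  exact hne (sc_comp hc p).symm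

theorem range_scale {A : End F V} {c : F} (hc : c ≠ 0) :
    LinearMap.range (c⁻¹ • A - 1) = LinearMap.range (A - c • (1 : End F V)) := by
  have h1 : c⁻¹ • A - 1 = c⁻¹ • (A - c • (1 : End F V)) := by
    rw [smul_sub, smul_smul, inv_mul_cancel₀ hc, one_smul]
  rw [h1, LinearMap.range_smul _ _ (inv_ne_zero hc)]

/-- **`A - c` of rank 1** -/
theorem exists_rank_le_one {m : ℕ} (hm : 2 ≤ m) (hV : finrank F V = m) {A : End F V} {c : F} (hc : c ≠ 0)
    (hr : finrank F (LinearMap.range (A - c • (1 : End F V))) = 1)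
    {p g : F[X]} (hp : p.Monic) (hpd : p.natDegree = m) (hg : g.Monic) (hgd : g.natDegree = m) (hg0 : g.coeff 0 ≠ 0)
    (hdet : p.coeff 0 = LinearMap.det A * g.coeff 0) (hne : p ≠ C (c ^ m) * g.comp (C c⁻¹ * X)) :
    ∃ Z : End F V, LinearMap.charpoly (A * Z) = p ∧ LinearMap.charpoly Z = g := by
  obtain ⟨n, rfl⟩ : ∃ n, m = n + 1 := ⟨m - 1, by omega⟩
  obtain ⟨h1, h2⟩ := sc_monic hc hp hpd
  exact of_scale hV hc (exists_rank_one (by omega) hV (by rw [range_scale hc, hr]) h1 h2 hg hgd hg0 (sc_det hV hdet)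
    (sc_ne hc hne))

/-- **`A - c` of rank 1 or 2** -/
theorem exists_rank_le_two' [Finite F] {m : ℕ} (hm : 5 ≤ m ∨ (m = 4 ∧ 3 ≤ Nat.card F)) (hV : finrank F V = m) {A : End F V} {c : F} (hc : c ≠ 0)
    (hr : finrank F (LinearMap.range (A - c • (1 : End F V))) ≤ 2) (hA : A ≠ c • (1 : End F V))
    {p g : F[X]} (hp : p.Monic) (hpd : p.natDegree = m) (hp0 : p.coeff 0 ≠ 0)
    (hg : g.Monic) (hgd : g.natDegree = m) (hg0 : g.coeff 0 ≠ 0)
    (hdet : p.coeff 0 = LinearMap.det A * g.coeff 0) (hne : p ≠ C (c ^ m) * g.comp (C c⁻¹ * X)) :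
    ∃ Z : End F V, LinearMap.charpoly (A * Z) = p ∧ LinearMap.charpoly Z = g := by
  have h0 : finrank F (LinearMap.range (A - c • (1 : End F V))) ≠ 0 := by
    intro h
    rw [Submodule.finrank_eq_zero, LinearMap.range_eq_bot, sub_eq_zero] at h
    exact hA h
  by_cases h1 : finrank F (LinearMap.range (A - c • (1 : End F V))) = 1
  · exact exists_rank_le_one (by omega) hV hc h1 hp hpd hg hgd hg0 hdet hne
  · obtain ⟨n, rfl⟩ : ∃ n, m = n + 3 := ⟨m - 3, by omega⟩
    obtain ⟨h2, h3⟩ := sc_monic hc hp hpd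
    refine of_scale hV hc (exists_rank_two (n := n) (hm.imp (fun h => by omega) (fun h => ⟨by omega, h.2⟩)) hV ?_ (by rw [range_scale hc]; omega) h2 h3 hg hgd hg0
      (sc_det hV hdet))
    rw [LinearMap.det_smul]
    refine mul_ne_zero (pow_ne_zero _ (inv_ne_zero hc)) fun h => hp0 ?_
    rw [hdet, h, zero_mul]

/-- **`A - c` of rank 1 or 2** -/
theorem exists_rank_le_two [Finite F] {m : ℕ} (hm : 5 ≤ m) (hV : finrank F V = m) {A : End F V} {c : F} (hc : c ≠ 0)
    (hr : finrank F (LinearMap.range (A - c • (1 : End F V))) ≤ 2) (hA : A ≠ c • (1 : End F V))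
    {p g : F[X]} (hp : p.Monic) (hpd : p.natDegree = m) (hp0 : p.coeff 0 ≠ 0)
    (hg : g.Monic) (hgd : g.natDegree = m) (hg0 : g.coeff 0 ≠ 0)
    (hdet : p.coeff 0 = LinearMap.det A * g.coeff 0) (hne : p ≠ C (c ^ m) * g.comp (C c⁻¹ * X)) :
    ∃ Z : End F V, LinearMap.charpoly (A * Z) = p ∧ LinearMap.charpoly Z = g :=
  exists_rank_le_two' (Or.inl hm) hV hc hr hA hp hpd hp0 hg hgd hg0 hdet hne

/-- dimension 4, two elements, the same coefficient of `X ^ 2` -/
theorem exists_rank_le_two_F2 [Finite F] (hF : ∀ u : F, u = 0 ∨ u = 1) (hV : finrank F V = 4) {A : End F V} {c : F}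
    (hc : c ≠ 0)
    (hr : finrank F (LinearMap.range (A - c • (1 : End F V))) ≤ 2) (hA : A ≠ c • (1 : End F V))
    {p g : F[X]} (hp : p.Monic) (hpd : p.natDegree = 4) (hp0 : p.coeff 0 ≠ 0)
    (hg : g.Monic) (hgd : g.natDegree = 4) (hg0 : g.coeff 0 ≠ 0)
    (hdet : p.coeff 0 = LinearMap.det A * g.coeff 0) (hne : p ≠ C (c ^ 4) * g.comp (C c⁻¹ * X))
    (h2 : p.coeff 2 = g.coeff 2) :
    ∃ Z : End F V, LinearMap.charpoly (A * Z) = p ∧ LinearMap.charpoly Z = g := by
  have h0 : finrank F (LinearMap.range (A - c • (1 : End F V))) ≠ 0 := by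
    intro h
    rw [Submodule.finrank_eq_zero, LinearMap.range_eq_bot, sub_eq_zero] at h
    exact hA h
  by_cases h1 : finrank F (LinearMap.range (A - c • (1 : End F V))) = 1
  · exact exists_rank_le_one (by omega) hV hc h1 hp hpd hg hgd hg0 hdet hne
  · have hc1 : c = 1 := (hF c).resolve_left hc
    subst hc1
    rw [one_smul] at hr h0 h1
    refine exists_rank_two_F2 hF hV (fun h => hp0 ?_) (by omega) hp hpd hg hgd hg0 hdet h2
    rw [hdet, h, zero_mul]

end Scale

section Matrix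

variable {F : Type*} [Field F] {m : ℕ}

theorem of_toLin {A : Matrix (Fin m) (Fin m) F} {p g : F[X]}
    (h : ∃ Z : End F (Fin m → F), LinearMap.charpoly (A.toLin' * Z) = p ∧ LinearMap.charpoly Z = g) :
    ∃ X Z : Matrix (Fin m) (Fin m) F, A * Z = X ∧ X.charpoly = p ∧ Z.charpoly = g := by
  obtain ⟨Z, h1, h2⟩ := h
  refine ⟨A * LinearMap.toMatrix' Z, LinearMap.toMatrix' Z, rfl, ?_, ?_⟩
  · rw [← h1, ← Matrix.charpoly_toLin', Matrix.toLin'_mul, Matrix.toLin'_toMatrix']
    rfl
  · rw [← h2, ← Matrix.charpoly_toLin', Matrix.toLin'_toMatrix']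

theorem toLin_sub (A : Matrix (Fin m) (Fin m) F) (c : F) :
    A.toLin' - c • (1 : End F (Fin m → F)) = (A - c • (1 : Matrix (Fin m) (Fin m) F)).toLin' := by
  rw [map_sub, map_smul, Matrix.toLin'_one]
  rfl

theorem rank_toLin (A : Matrix (Fin m) (Fin m) F) (c : F) :
    finrank F (LinearMap.range (A.toLin' - c • (1 : End F (Fin m → F)))) = (A - c • (1 : Matrix (Fin m) (Fin m) F)).rank := by
  rw [toLin_sub]
  rfl

/-- **`A - c` of rank 1**: matrix form, any field -/
theorem exists_mul_rank_one (hm : 2 ≤ m) (A : Matrix (Fin m) (Fin m) F) {c : F} (hc : c ≠ 0)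
    (hr : (A - c • (1 : Matrix (Fin m) (Fin m) F)).rank = 1)
    {p g : F[X]} (hp : p.Monic) (hpd : p.natDegree = m) (hg : g.Monic) (hgd : g.natDegree = m) (hg0 : g.coeff 0 ≠ 0)
    (hdet : p.coeff 0 = A.det * g.coeff 0) (hne : p ≠ C (c ^ m) * g.comp (C c⁻¹ * X)) :
    ∃ X Z : Matrix (Fin m) (Fin m) F, A * Z = X ∧ X.charpoly = p ∧ Z.charpoly = g :=
  of_toLin (exists_rank_le_one hm (by rw [Module.finrank_fin_fun]) hc (by rw [rank_toLin, hr]) hp hpd hg hgd hg0
    (by rw [LinearMap.det_toLin', hdet]) hne)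

theorem ne_smul_one {A : Matrix (Fin m) (Fin m) F} {c : F} (hA : A ≠ c • (1 : Matrix (Fin m) (Fin m) F)) :
    A.toLin' ≠ c • (1 : End F (Fin m → F)) := fun h => hA (by
  have h1 := toLin_sub A c
  rw [h, sub_self] at h1
  have h2 : (A - c • (1 : Matrix (Fin m) (Fin m) F)) = 0 := Matrix.toLin'.injective (by rw [← h1, map_zero])
  exact sub_eq_zero.1 h2)

/-- **`A - c` of rank 1 or 2**: matrix form, finite field, `m ≥ 5` or `m = 4` and `|F| ≥ 3` -/
theorem exists_mul_rank' [Finite F] (hm : 5 ≤ m ∨ (m = 4 ∧ 3 ≤ Nat.card F)) (A : Matrix (Fin m) (Fin m) F) {c : F}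
    (hc : c ≠ 0)
    (hr : (A - c • (1 : Matrix (Fin m) (Fin m) F)).rank ≤ 2) (hA : A ≠ c • (1 : Matrix (Fin m) (Fin m) F))
    {p g : F[X]} (hp : p.Monic) (hpd : p.natDegree = m) (hp0 : p.coeff 0 ≠ 0)
    (hg : g.Monic) (hgd : g.natDegree = m) (hg0 : g.coeff 0 ≠ 0)
    (hdet : p.coeff 0 = A.det * g.coeff 0) (hne : p ≠ C (c ^ m) * g.comp (C c⁻¹ * X)) :
    ∃ X Z : Matrix (Fin m) (Fin m) F, A * Z = X ∧ X.charpoly = p ∧ Z.charpoly = g :=
  of_toLin (exists_rank_le_two' hm (by rw [Module.finrank_fin_fun]) hc (by rw [rank_toLin]; exact hr) (ne_smul_one hA)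
    hp hpd hp0 hg hgd hg0 (by rw [LinearMap.det_toLin', hdet]) hne)

/-- two elements, `m = 4`, the same coefficient of `X ^ 2` -/
theorem exists_mul_rank_F2 [Finite F] (hF : ∀ u : F, u = 0 ∨ u = 1) (A : Matrix (Fin 4) (Fin 4) F) {c : F}
    (hc : c ≠ 0)
    (hr : (A - c • (1 : Matrix (Fin 4) (Fin 4) F)).rank ≤ 2) (hA : A ≠ c • (1 : Matrix (Fin 4) (Fin 4) F))
    {p g : F[X]} (hp : p.Monic) (hpd : p.natDegree = 4) (hp0 : p.coeff 0 ≠ 0)
    (hg : g.Monic) (hgd : g.natDegree = 4) (hg0 : g.coeff 0 ≠ 0)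
    (hdet : p.coeff 0 = A.det * g.coeff 0) (hne : p ≠ C (c ^ 4) * g.comp (C c⁻¹ * X))
    (h2 : p.coeff 2 = g.coeff 2) :
    ∃ X Z : Matrix (Fin 4) (Fin 4) F, A * Z = X ∧ X.charpoly = p ∧ Z.charpoly = g :=
  of_toLin (exists_rank_le_two_F2 hF (by rw [Module.finrank_fin_fun]) hc (by rw [rank_toLin]; exact hr) (ne_smul_one hA)
    hp hpd hp0 hg hgd hg0 (by rw [LinearMap.det_toLin', hdet]) hne h2)

end Matrix

end Cfsg.Agent.H130.War
end

private theorem dce_61fe5b43e3d8 : _root_.True := by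
  try have : _root_.True := by simp only [_root_.Cfsg.Agent.H130.War.aa.eq_1]
  try have : _root_.True := by simp only [_root_.Cfsg.Agent.H130.War.cc.eq_1]
  try have : _root_.True := by simp only [_root_.Cfsg.Agent.H130.War.sc.eq_1]
  try have : _root_.True := by simp only [_root_.Cfsg.Agent.H130.War.ev1.eq_1]
  try have : _root_.True := by simp only [_root_.Cfsg.Agent.H130.War.ev.eq_1]
  exact _root_.True.intro
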